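import Cfsg.Agent.Lib.Block.GreenIntersection
import Cfsg.Agent.Lib.Block.Height
import Cfsg.Agent.Lib.Grp.Cores
import Cfsg.Agent.Lib.Grp.CoprimeAbelian

/-!
Defect groups in groups of characteristic `p`: the group theoretic dichotomy, its consequence for
blocks, and the criterion by constrained centralisers.
-/

set_option autoImplicit false
set_option linter.unusedSectionVars false

namespace Cfsg.Agent.Lie.DefChar

variable {G : Type*} [Group G] (p : ℕ)

/-- Every `p`-subgroup of `N_G(D)` normalised by `N_G(D)` lies in `D`. -/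
def Radical (D : Subgroup G) : Prop :=
  ∀ M : Subgroup G, IsPGroup p M → M ≤ Subgroup.normalizer (D : Set G) →
    (∀ g ∈ Subgroup.normalizer (D : Set G), ∀ m ∈ M, g * m * g⁻¹ ∈ M) → M ≤ D

/-- Green's condition: above `D`, every Sylow subgroup meets one of its conjugates under `C_G(D)`
exactly in `D`. -/
def Green (D : Subgroup G) : Prop :=
  ∀ P : Sylow p G, D ≤ P → ∃ x : G, (∀ d ∈ D, Commute x d) ∧
    ∀ y : G, (y ∈ (P : Subgroup G) ∧ x⁻¹ * y * x ∈ (P : Subgroup G)) ↔ y ∈ D

/-- Radical subgroups with Green's condition are trivial or Sylow subgroups. -/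
def Dichotomy (G : Type*) [Group G] : Prop :=
  ∀ D : Subgroup G, IsPGroup p D → Radical p D → Green p D →
    D = ⊥ ∨ ∃ P : Sylow p G, (P : Subgroup G) = D

/-- The centraliser of a nontrivial radical subgroup is a `p`-group. -/
def Constrained (G : Type*) [Group G] : Prop :=
  ∀ D : Subgroup G, D ≠ ⊥ → IsPGroup p D → Radical p D →
    ∀ y : G, (∀ d ∈ D, Commute y d) → ¬ p ∣ orderOf y → y = 1

variable {p}

theorem mem_normalizer_of_commute {D : Subgroup G} {c : G} (hc : ∀ d ∈ D, Commute c d) :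
    c ∈ Subgroup.normalizer (D : Set G) := by
  refine Subgroup.mem_normalizer_iff.2 fun d => ⟨fun hd => ?_, fun hd => ?_⟩
  · rwa [(hc d hd).eq, mul_inv_cancel_right]
  · have h1 : c⁻¹ * (c * d * c⁻¹) * c = c * d * c⁻¹ := by
      rw [mul_assoc, ← (hc _ hd).eq, ← mul_assoc, inv_mul_cancel, one_mul]
    rw [show c⁻¹ * (c * d * c⁻¹) * c = d by group] at h1
    rwa [h1]

theorem Constrained.dichotomy [Finite G] [Fact p.Prime] (h : Constrained p G) : Dichotomy p G := by
  intro D hD hrad hgr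
  refine or_iff_not_imp_left.2 fun hne => ?_
  obtain ⟨P, hP⟩ := hD.exists_le_sylow
  refine ⟨P, le_antisymm (fun y hy => ?_) hP⟩
  obtain ⟨x, hx, hxy⟩ := hgr P hP
  have hC : Subgroup.centralizer (D : Set G) ≤ D := by
    refine hrad _ (fun c => ?_) (fun c hc => mem_normalizer_of_commute fun d hd =>
        (Subgroup.mem_centralizer_iff.1 hc d hd).symm)
      (fun g hg c hc => Subgroup.mem_centralizer_iff.2 fun d hd => ?_)
    · have hc : ∀ d ∈ D, Commute (c : G) d := fun d hd =>
        (Subgroup.mem_centralizer_iff.1 c.2 d hd).symm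
      obtain ⟨e, n, hn, hcn⟩ := Nat.exists_eq_pow_mul_and_not_dvd (orderOf_pos (c : G)).ne' p
        (Fact.out : p.Prime).ne_one
      refine ⟨e, Subtype.ext ?_⟩
      refine h D hne hD hrad ((c : G) ^ p ^ e) (fun d hd => (hc d hd).pow_left _) ?_
      rwa [orderOf_pow_of_dvd (pow_ne_zero _ (Fact.out : p.Prime).ne_zero) (hcn ▸ dvd_mul_right _ _),
        hcn, Nat.mul_div_cancel_left _ (pow_pos (Fact.out : p.Prime).pos _)]
    · have hd' := (Subgroup.mem_normalizer_iff.1 (inv_mem hg) d).1 hd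
      rw [inv_inv] at hd'
      calc d * (g * c * g⁻¹) = g * (g⁻¹ * d * g * c) * g⁻¹ := by group
        _ = g * (c * (g⁻¹ * d * g)) * g⁻¹ := by rw [Subgroup.mem_centralizer_iff.1 hc _ hd']
        _ = g * c * g⁻¹ * d := by group
  have hxD : x ∈ D := hC (Subgroup.mem_centralizer_iff.2 fun d hd => (hx d hd).symm.eq)
  exact (hxy y).1 ⟨hy, mul_mem (mul_mem (inv_mem (hP hxD)) hy) (hP hxD)⟩

/-- Transport of the conditions along an isomorphism. -/
theorem Dichotomy.of_equiv {K : Type*} [Group K] [Finite G] [Finite K] [Fact p.Prime] (e : G ≃* K)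
    (h : Dichotomy p G) : Dichotomy p K := by
  intro D hD hrad hgr
  have hmem : ∀ {g : G}, g ∈ D.comap e.toMonoidHom ↔ e g ∈ D := Iff.rfl
  have hN : ∀ {g : G}, g ∈ Subgroup.normalizer (D.comap e.toMonoidHom : Set G) ↔
      e g ∈ Subgroup.normalizer (D : Set K) := by
    intro g
    rw [Subgroup.mem_normalizer_iff, Subgroup.mem_normalizer_iff]
    constructor
    · intro hg d
      obtain ⟨d, rfl⟩ := e.surjective d
      simpa [hmem] using hg d
    · intro hg d
      simpa [hmem] using hg (e d)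
  refine (h (D.comap e.toMonoidHom) (hD.comap_of_injective _ e.injective) ?_ ?_).elim
    (fun h1 => ?_) (fun h1 => ?_)
  rotate_left 2
  · refine Or.inl (le_bot_iff.1 fun d hd => ?_)
    obtain ⟨d, rfl⟩ := e.surjective d
    have : d ∈ D.comap e.toMonoidHom := hd
    rw [h1, Subgroup.mem_bot] at this
    exact Subgroup.mem_bot.2 (by rw [this, map_one])
  · obtain ⟨P, hP⟩ := h1
    refine Or.inr ⟨P.mapSurjective (f := e.toMonoidHom) e.surjective, ?_⟩
    refine (Sylow.coe_mapSurjective e.surjective P).trans ?_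
    rw [hP]
    exact Subgroup.map_comap_eq_self_of_surjective e.surjective D
  · intro M hM hMN hMn m hm
    exact hrad (M.map e.toMonoidHom) (hM.map _)
      (by rintro _ ⟨a, ha, rfl⟩; exact hN.1 (hMN ha))
      (by
        rintro g hg _ ⟨a, ha, rfl⟩
        obtain ⟨g, rfl⟩ := e.surjective g
        exact ⟨g * a * g⁻¹, hMn g (hN.2 hg) a ha, by simp⟩) ⟨m, hm, rfl⟩
  · intro P hP
    obtain ⟨x, hx, hxy⟩ := hgr (P.mapSurjective (f := e.toMonoidHom) e.surjective) (by
      intro d hd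
      obtain ⟨d, rfl⟩ := e.surjective d
      exact ⟨d, hP hd, rfl⟩)
    obtain ⟨x, rfl⟩ := e.surjective x
    refine ⟨x, fun d hd => ?_, fun y => ?_⟩
    · refine e.injective ?_
      rw [map_mul, map_mul]
      exact hx _ hd
    · have h1 := hxy (e y)
      rw [← map_inv, ← map_mul, ← map_mul] at h1
      have hk : ∀ z : G, e z ∈ (↑(P.mapSurjective (f := e.toMonoidHom) e.surjective) : Subgroup K) ↔
          z ∈ (P : Subgroup G) := fun z =>
        ⟨fun ⟨w, hw, hwz⟩ => e.injective hwz ▸ hw, fun hz => ⟨z, hz, rfl⟩⟩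
      rw [hk, hk] at h1
      exact h1

open Cfsg.Agent.Block in
/-- Blocks of a group with the dichotomy have defect zero or full defect. -/
theorem blockDefect_eq_zero_or {G : Type*} [Group G] [Finite G] [Fact p.Prime] (h : Dichotomy p G)
    {M : Ideal Cfsg.AlgInt} (hM : Cfsg.IsPModular p M) {B : Set (Cfsg.IrrCharacter G)}
    (hB : Cfsg.IsPBlock M B) :
    Cfsg.blockDefect p B = 0 ∨ Cfsg.blockDefect p B = (Nat.card G).factorization p := by
  obtain ⟨D, hBD⟩ := exists_isDefectGroup hM hB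
  have hD := IsDefectGroup.isPGroup hBD
  have hcard := card_defectGroup hM hB hBD
  refine (h D hD ?_ ?_).elim (fun h1 => ?_) (fun h1 => ?_)
  rotate_left 2
  · rw [h1, Subgroup.card_bot] at hcard
    exact Or.inl (Nat.pow_right_injective (Fact.out : p.Prime).two_le
      (by simp only [pow_zero]; exact hcard.symm))
  · obtain ⟨P, rfl⟩ := h1
    refine Or.inr ?_
    rw [P.card_eq_multiplicity] at hcard
    exact (Nat.pow_right_injective (Fact.out : p.Prime).two_le hcard).symm
  · intro M' hM' hMN hn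
    haveI : (M'.subgroupOf (Subgroup.normalizer (D : Set G))).Normal :=
      ⟨fun a ha g => hn g g.2 a ha⟩
    have := pCore_normalizer_eq hM hB hBD (K := M'.subgroupOf (Subgroup.normalizer (D : Set G)))
      (hM'.comap_of_injective _ (Subgroup.subtype_injective _))
    intro a ha
    exact this ⟨⟨a, hMN ha⟩, ha, rfl⟩
  · intro P hP
    obtain ⟨x, -, ⟨S, hS⟩, hI⟩ := green_intersection hM hB hBD P hP
    refine ⟨x, fun d hd => ?_, fun y => ?_⟩
    · rw [← hS] at hd
      exact (Subgroup.mem_centralizer_singleton_iff.1 (csyl_le S hd)).symm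
    · rw [← hI, Subgroup.mem_inf, Subgroup.mem_map]
      refine and_congr_right fun _ => ⟨fun hy => ⟨_, hy, by simp [MulAut.conj_apply, mul_assoc]⟩, ?_⟩
      rintro ⟨a, ha, rfl⟩
      simpa [MulAut.conj_apply, mul_assoc] using ha

/-- The criterion: every element of order `p` has a `p`-group normalised by its centraliser with
small centraliser there. -/
theorem constrained_of_normalised {S : Type*} [Group S] [Finite S] [Finite G] [Fact p.Prime] {π : S →* G}
    (hπ : Function.Surjective π) (hcen : π.ker ≤ Subgroup.center S) (hker : ¬ p ∣ Nat.card π.ker)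
    (h : ∀ x : S, orderOf x = p → ∃ R : Subgroup S, IsPGroup p R ∧
      (∀ g : S, Commute g x → ∀ r ∈ R, g * r * g⁻¹ ∈ R) ∧
      ∀ y : S, Commute y x → ¬ p ∣ orderOf y → (∀ r ∈ R, Commute y r) → π y = 1) : Constrained p G := by
  have hp : p.Prime := Fact.out
  intro D hne hD hrad y hy hyo
  have hk1 : ∀ z ∈ π.ker, ∀ k : ℕ, z ^ p ^ k = 1 → z = 1 := by
    intro z hz k e
    refine orderOf_eq_one_iff.1 ?_
    obtain ⟨j, -, hj⟩ := (Nat.dvd_prime_pow hp).1 (orderOf_dvd_of_pow_eq_one e)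
    rcases j with _ | j
    · simpa using hj
    · exact absurd ((hj ▸ dvd_pow_self p j.succ_ne_zero : p ∣ orderOf z).trans
        (Subgroup.orderOf_dvd_natCard π.ker hz)) hker
  have hlift : ∀ (g a : S) (k : ℕ), a ^ p ^ k = 1 → Commute (π g) (π a) → Commute g a := by
    intro g a k ha hg
    have hz : g * a * g⁻¹ * a⁻¹ ∈ π.ker := by
      rw [MonoidHom.mem_ker, map_mul, map_mul, map_mul, map_inv, map_inv, hg.eq,
        mul_inv_cancel_right, mul_inv_cancel]
    set z := g * a * g⁻¹ * a⁻¹ with hzd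
    have e1 : g * a * g⁻¹ = z * a := by rw [hzd, inv_mul_cancel_right]
    have hza : Commute z a := ((Subgroup.mem_center_iff.1 (hcen hz)) a).symm
    have e2 : (z * a) ^ p ^ k = 1 := by rw [← e1, conj_pow, ha, mul_one, mul_inv_cancel]
    rw [hza.mul_pow, ha, mul_one] at e2
    rw [hk1 z hz k e2, one_mul, mul_inv_eq_iff_eq_mul] at e1
    exact e1
  -- an element of order `p` of the centre of `D`
  haveI : Nontrivial D := D.nontrivial_iff_ne_bot.2 hne
  haveI := hD.center_nontrivial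
  obtain ⟨n, hn0, hn⟩ := ((IsPGroup.to_subgroup hD (Subgroup.center D)).nontrivial_iff_card).1
    inferInstance
  obtain ⟨⟨x, hxc⟩, hx⟩ := exists_prime_orderOf_dvd_card' (G := Subgroup.center D) p
    (hn ▸ dvd_pow_self p hn0.ne')
  rw [← Subgroup.orderOf_coe, ← Subgroup.orderOf_coe] at hx
  have hxD : ∀ d ∈ D, Commute (x : G) d := fun d hd =>
    (congrArg Subtype.val (Subgroup.mem_center_iff.1 hxc ⟨d, hd⟩)).symm
  obtain ⟨x₀, hx₀⟩ := hπ (x : G)
  -- a preimage of order `p`
  obtain ⟨x₁, hx₁, hx₁o⟩ : ∃ x₁, π x₁ = x ∧ orderOf x₁ = p := by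
    have hcop : (Nat.card π.ker).Coprime p := ((hp.coprime_iff_not_dvd).2 hker).symm
    obtain ⟨j, -, hj⟩ := Nat.exists_mul_mod_eq_one_of_coprime hcop hp.one_lt
    refine ⟨x₀ ^ (Nat.card π.ker * j), ?_, orderOf_eq_prime ?_ fun e => ?_⟩
    · have e1 : ((x : G)) ^ (Nat.card π.ker * j) = x := by
        rw [← pow_mod_orderOf, hx, hj, pow_one]
      rw [map_pow, hx₀, e1]
    · have hz : x₀ ^ p ∈ π.ker := by
        rw [MonoidHom.mem_ker, map_pow, hx₀, ← hx, pow_orderOf_eq_one]
      rw [← pow_mul, mul_comm, pow_mul, pow_mul]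
      have := congrArg Subtype.val (pow_card_eq_one' (x := (⟨x₀ ^ p, hz⟩ : π.ker)))
      rw [Subgroup.coe_pow, Subgroup.coe_one] at this
      rw [this, one_pow]
    · have e1 : ((x : G)) ^ (Nat.card π.ker * j) = x := by
        rw [← pow_mod_orderOf, hx, hj, pow_one]
      rw [← hx₀, ← map_pow, e, map_one] at e1
      rw [hx₀] at e1
      rw [← e1, orderOf_one] at hx
      exact hp.ne_one hx.symm
  have hx₁p : x₁ ^ p ^ 1 = 1 := by rw [pow_one, ← hx₁o, pow_orderOf_eq_one]
  have hcx : ∀ g : S, Commute (π g) (x : G) → Commute g x₁ := fun g hg =>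
    hlift g x₁ 1 hx₁p (hx₁ ▸ hg)
  obtain ⟨R, hR, hRn, hRc⟩ := h x₁ hx₁o
  have hRG : ∀ g : G, Commute g x → ∀ r ∈ R.map π, g * r * g⁻¹ ∈ R.map π := by
    rintro g hg _ ⟨r, hr, rfl⟩
    obtain ⟨g, rfl⟩ := hπ g
    exact ⟨g * r * g⁻¹, hRn g (hcx g hg) r hr, by simp⟩
  have hnorm : ∀ T : Subgroup G, (∀ g ∈ T, Commute g x) →
      T ≤ Subgroup.normalizer (R.map π : Set G) := by
    intro T hT g hg
    refine Subgroup.mem_normalizer_iff.2 fun r => ⟨hRG g (hT g hg) r, fun hr => ?_⟩
    have := hRG g⁻¹ (hT g hg).inv_left _ hr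
    simpa [mul_assoc] using this
  -- the fixed points of `D` lie in `D`
  let C := Subgroup.centralizer (D : Set G)
  have hCx : ∀ g ∈ C, Commute g x := fun g hg => (Subgroup.mem_centralizer_iff.1 hg x x.2).symm
  let O : Subgroup G := (Cfsg.pCore p ↥C).map C.subtype
  have hOD : O ≤ D := by
    refine hrad O ((Grp.pCore_isPGroup (p := p) (G := ↥C)).map _) ?_ ?_
    · rintro _ ⟨a, -, rfl⟩
      exact mem_normalizer_of_commute fun d hd => (Subgroup.mem_centralizer_iff.1 a.2 d hd).symm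
    · intro g hg m hm
      have hgC : ∀ c ∈ C, g * c * g⁻¹ ∈ C := fun c hc => Subgroup.mem_centralizer_iff.2 fun d hd => by
        have hd' := (Subgroup.mem_normalizer_iff.1 (inv_mem hg) d).1 hd
        rw [inv_inv] at hd'
        calc d * (g * c * g⁻¹) = g * (g⁻¹ * d * g * c) * g⁻¹ := by group
          _ = g * (c * (g⁻¹ * d * g)) * g⁻¹ := by rw [Subgroup.mem_centralizer_iff.1 hc _ hd']
          _ = g * c * g⁻¹ * d := by group
      have hgC' : ∀ c ∈ C, g⁻¹ * c * g ∈ C := fun c hc => Subgroup.mem_centralizer_iff.2 fun d hd => by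
        have hd' := (Subgroup.mem_normalizer_iff.1 hg d).1 hd
        calc d * (g⁻¹ * c * g) = g⁻¹ * (g * d * g⁻¹ * c) * g := by group
          _ = g⁻¹ * (c * (g * d * g⁻¹)) * g := by rw [Subgroup.mem_centralizer_iff.1 hc _ hd']
          _ = g⁻¹ * c * g * d := by group
      let T : Subgroup C := (O.map (MulAut.conj g).toMonoidHom).subgroupOf C
      have hT : T ≤ Cfsg.pCore p ↥C := Grp.le_pCore ⟨fun a ha c => by
          obtain ⟨b, ⟨b', hb', rfl⟩, e⟩ := ha
          have hc' := hgC' c c.2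
          refine ⟨_, ⟨⟨_, hc'⟩ * b' * ⟨_, hc'⟩⁻¹,
            (Grp.pCore_isNormal (p := p) (G := ↥C)).conj_mem b' hb' _, rfl⟩, ?_⟩
          have e' : g * (b' : G) * g⁻¹ = (a : G) := e
          simp [← e', mul_assoc]⟩
        (((Grp.pCore_isPGroup (p := p) (G := ↥C)).map _).map _ |>.comap_of_injective _
          C.subtype_injective)
      obtain ⟨b, hb, rfl⟩ := hm
      exact ⟨⟨_, hgC _ b.2⟩, hT ⟨b, ⟨b, hb, rfl⟩, by simp⟩, by simp⟩
  have hfix : R.map π ⊓ C ≤ D := by
    refine le_trans ?_ hOD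
    have : (R.map π ⊓ C).subgroupOf C ≤ Cfsg.pCore p ↥C :=
      Grp.le_pCore ⟨fun a ha c => ⟨hRG _ (hCx c c.2) _ ha.1, by
        rw [Subgroup.coe_subtype]; exact (c * a * c⁻¹).2⟩⟩
        (((hR.map π).to_le inf_le_left).comap_of_injective _ C.subtype_injective)
    intro a ha
    exact ⟨⟨a, ha.2⟩, this ha, rfl⟩
  have hQ : (Nat.card (Subgroup.zpowers y)).Coprime p := by
    rw [Nat.card_zpowers]; exact ((hp.coprime_iff_not_dvd).2 hyo).symm
  have hyC : y ∈ C := Subgroup.mem_centralizer_iff.2 fun d hd => (hy d hd).symm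
  have hcomm := Grp.thompson_PQ D (Subgroup.zpowers y) hD hQ
    (fun d hd => Subgroup.mem_centralizer_iff.2 fun a ha => by
      obtain ⟨i, rfl⟩ := Subgroup.mem_zpowers_iff.1 ha
      exact ((hy d hd).zpow_left i).eq) (R.map π) (hR.map π)
    (hnorm D fun d hd => (hxD d hd).symm) (hnorm _ fun g hg => by
      obtain ⟨i, rfl⟩ := Subgroup.mem_zpowers_iff.1 hg
      exact (hy x x.2).zpow_left i)
    (fun u hu => Subgroup.mem_centralizer_iff.2 fun a ha => by
      obtain ⟨i, rfl⟩ := Subgroup.mem_zpowers_iff.1 ha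
      exact ((hy u (hfix hu)).zpow_left i).eq)
  -- lift back
  obtain ⟨y₀, rfl⟩ := hπ y
  refine hRc y₀ (hcx y₀ (hy x x.2)) (fun hd => ?_) fun r hr => ?_
  · have h1 : orderOf y₀ ∣ orderOf (π y₀) * Nat.card π.ker := by
      refine orderOf_dvd_of_pow_eq_one ?_
      rw [pow_mul]
      exact congrArg Subtype.val (pow_card_eq_one' (x := (⟨y₀ ^ orderOf (π y₀),
        by rw [MonoidHom.mem_ker, map_pow, pow_orderOf_eq_one]⟩ : π.ker)))
    rcases (hp.dvd_mul).1 (hd.trans h1) with h2 | h2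
    · exact hyo h2
    · exact hker h2
  · obtain ⟨k, hk⟩ := hR ⟨r, hr⟩
    exact hlift y₀ r k (congrArg Subtype.val hk) (Subgroup.mem_centralizer_iff.1
      (hcomm (Subgroup.mem_zpowers _)) _ ⟨r, hr, rfl⟩).symm

end Cfsg.Agent.Lie.DefChar
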