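import Cfsg.Agent.Lib.Lie.DefChar.Basic
import Cfsg.Agent.Lib.Lie.Over.Forms
import Cfsg.Agent.Lib.Lie.Over.Linear

/-!
Classical groups in characteristic `p`: for an element `x` of order `p` with `N = x - 1` the group
fixing a subspace `W ⊆ ker N ∩ im N` and the associated quotients is normalised by `C(x)`, and its
centraliser has only scalars of order prime to `p`.
-/

set_option autoImplicit false
set_option linter.unusedSectionVars false
set_option linter.style.haveILetI false
set_option quotPrecheck false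
set_option maxHeartbeats 1000000

namespace Cfsg.Agent.Lie.DefChar

open Cfsg.Agent.Lie.Over Module

section Ends

variable {F : Type*} [Field F] {p : ℕ} [Fact p.Prime] [CharP F p] {V : Type*} [AddCommGroup V]
  [Module F V] {S : Type*} [Group S] [Finite S] (act : S →* Module.End F V)

/-- An element of order prime to `p` close to a scalar is central. -/
theorem mem_center_of_cube (hinj : Function.Injective act) {y : S} (hy : ¬ p ∣ orderOf y) {c : F}
    (hc : (act y - algebraMap F (Module.End F V) c) ^ 3 = 0) : y ∈ Subgroup.center S := by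
  rcases subsingleton_or_nontrivial (Module.End F V) with h | h
  · exact Subgroup.mem_center_iff.2 fun g => hinj (Subsingleton.elim _ _)
  haveI : CharP (Module.End F V) p :=
    charP_of_injective_algebraMap (algebraMap F (Module.End F V)).injective p
  haveI : ExpChar (Module.End F V) p := ExpChar.prime Fact.out
  have hp3 : 3 ≤ p ^ 2 := by have := (Fact.out : p.Prime).two_le; nlinarith
  have h1 : act (y ^ p ^ 2) = algebraMap F (Module.End F V) (c ^ p ^ 2) := by
    rw [map_pow, show act y = algebraMap F (Module.End F V) c +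
      (act y - algebraMap F (Module.End F V) c) by abel,
      add_pow_expChar_pow_of_commute p 2 (Algebra.commute_algebraMap_left c _),
      pow_eq_zero_of_le hp3 hc, add_zero, map_pow]
  have h2 : y ^ p ^ 2 ∈ Subgroup.center S := Subgroup.mem_center_iff.2 fun g => hinj (by
    rw [map_mul, map_mul, h1]
    exact (Algebra.commutes _ _).symm)
  have hcop : (p ^ 2).Coprime (orderOf y) :=
    Nat.Coprime.pow_left 2 (((Fact.out : p.Prime).coprime_iff_not_dvd).2 hy)
  obtain ⟨j, hj⟩ := exists_pow_eq_self_of_coprime hcop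
  rw [← hj]
  exact pow_mem h2 j

/-- The nilpotent part of an element of order `p`. -/
theorem sub_one_pow {x : S} (hx : orderOf x = p) : (act x - 1) ^ p = 0 := by
  rcases subsingleton_or_nontrivial (Module.End F V) with h | h
  · exact Subsingleton.elim _ _
  haveI : CharP (Module.End F V) p :=
    charP_of_injective_algebraMap (algebraMap F (Module.End F V)).injective p
  haveI : ExpChar (Module.End F V) p := ExpChar.prime Fact.out
  have h1 : act x ^ p ^ 1 = 1 := by rw [pow_one, ← map_pow, ← hx, pow_orderOf_eq_one, map_one]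
  rw [show act x = 1 + (act x - 1) by abel,
    add_pow_expChar_pow_of_commute p 1 (Commute.one_left _), one_pow, pow_one, add_eq_left] at h1
  exact h1

theorem ker_inf_range_ne_bot {N : Module.End F V} {k : ℕ} (hN : N ^ k = 0) (h0 : N ≠ 0) :
    LinearMap.ker N ⊓ LinearMap.range N ≠ ⊥ := by
  intro hbot
  obtain ⟨v, hv⟩ : ∃ v, N v ≠ 0 := by
    by_contra hc
    push Not at hc
    exact h0 (LinearMap.ext hc)
  have key : ∀ j, (N ^ j) (N v) ≠ 0 := by
    intro j
    induction j with
    | zero => simpa using hv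
    | succ j ih =>
      rw [pow_succ', Module.End.mul_apply]
      intro e
      refine ih ((Submodule.eq_bot_iff _).1 hbot _ ⟨LinearMap.mem_ker.2 e, ?_⟩)
      refine ⟨(N ^ j) v, ?_⟩
      rw [← Module.End.mul_apply, ← Module.End.mul_apply, ← pow_succ', pow_succ]
  exact key k (by rw [hN, LinearMap.zero_apply])

theorem ker_sup_range_ne_top {N : Module.End F V} {k : ℕ} (hN : N ^ k = 0) (h0 : N ≠ 0) :
    LinearMap.ker N ⊔ LinearMap.range N ≠ ⊤ := by
  intro htop
  have hmap : (LinearMap.range N).map N = LinearMap.range N := by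
    have : (LinearMap.ker N ⊔ LinearMap.range N).map N = (⊤ : Submodule F V).map N := by rw [htop]
    rwa [Submodule.map_sup, (LinearMap.le_ker_iff_map).1 le_rfl, bot_sup_eq, Submodule.map_top] at this
  have key : ∀ (j : ℕ), ∀ a ∈ LinearMap.range N, ∃ b, (N ^ j) b = a := by
    intro j
    induction j with
    | zero => exact fun a _ => ⟨a, by simp⟩
    | succ j ih =>
      intro a ha
      rw [← hmap] at ha
      obtain ⟨b, hb, rfl⟩ := ha
      obtain ⟨c, rfl⟩ := ih b hb
      exact ⟨c, by rw [pow_succ', Module.End.mul_apply]⟩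
  refine h0 (LinearMap.ext fun v => ?_)
  obtain ⟨b, hb⟩ := key k _ (LinearMap.mem_range_self N v)
  rw [← hb, hN, LinearMap.zero_apply, LinearMap.zero_apply]

theorem sub_one_ne_zero (hinj : Function.Injective act) {x : S} (hx : orderOf x = p) :
    act x - 1 ≠ 0 := fun e => by
  have h1 : x = 1 := hinj (by rw [map_one]; exact sub_eq_zero.1 e)
  rw [h1, orderOf_one] at hx
  exact (Fact.out : p.Prime).ne_one hx.symm

theorem sub_one_comm {g x : S} (hg : Commute g x) (v : V) :
    act g ((act x - 1) v) = (act x - 1) (act g v) := by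
  simp only [LinearMap.sub_apply, Module.End.one_apply, map_sub]
  rw [← Module.End.mul_apply, ← map_mul, hg.eq, map_mul, Module.End.mul_apply]

/-- A linear map with every vector of a subspace an eigenvector is a scalar there. -/
theorem exists_scalar {f : Module.End F V} {W : Submodule F V}
    (h : ∀ w ∈ W, f w ∈ Submodule.span F {w}) : ∃ c : F, ∀ w ∈ W, f w = c • w := by
  by_cases hW : ∀ w ∈ W, w = 0
  · exact ⟨0, fun w hw => by rw [hW w hw, map_zero, smul_zero]⟩
  push Not at hW
  obtain ⟨a, ha, ha0⟩ := hW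
  obtain ⟨c, hc⟩ := Submodule.mem_span_singleton.1 (h a ha)
  refine ⟨c, fun w hw => ?_⟩
  by_cases hwa : w ∈ Submodule.span F {a}
  · obtain ⟨t, rfl⟩ := Submodule.mem_span_singleton.1 hwa
    rw [map_smul, ← hc, smul_smul, smul_smul, mul_comm]
  obtain ⟨d, hd⟩ := Submodule.mem_span_singleton.1 (h w hw)
  obtain ⟨e, he⟩ := Submodule.mem_span_singleton.1 (h (a + w) (add_mem ha hw))
  rw [map_add, ← hc, ← hd, smul_add] at he
  have h1 : (e - d) • w = (c - e) • a := by
    rw [sub_smul, sub_smul, sub_eq_sub_iff_add_eq_add, add_comm, he, add_comm]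
  have hed : e = d := by
    by_contra hne
    refine hwa (Submodule.mem_span_singleton.2 ⟨(e - d)⁻¹ * (c - e), ?_⟩)
    rw [mul_smul, ← h1, inv_smul_smul₀ (sub_ne_zero.2 hne)]
  rw [hed, sub_self, zero_smul] at h1
  have hcd : c = d := sub_eq_zero.1 ((smul_eq_zero.1 h1.symm).resolve_right ha0)
  rw [← hd, hcd]

end Ends

section Forms

variable {F : Type*} [Field F] {p : ℕ} [Fact p.Prime] [CharP F p] {V : Type*} [AddCommGroup V]
  [Module F V] [Finite V] [FiniteDimensional F V] {S : Type*} [Group S] [Finite S] (G : Geo F V S)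

/-- What is needed of a geometry. -/
structure Siegel : Prop where
  sing_of : ∀ x, G.β x x = 0 → G.sing x
  sep : ∀ w u, u ∉ Submodule.span F {w} → ∃ v, G.β v w = 0 ∧ G.β v u ≠ 0
  sieg : ∀ w u, G.sing w → G.β u w = 0 → ∃ g, ∃ k l : F, k ≠ 0 ∧
    ∀ v, G.act g v = v + G.β v w • u + (k * G.β v u + l * G.β v w) • w
  tv : (∀ w, G.sing w → ∃ g, ∃ l : F, l ≠ 0 ∧ ∀ v, G.act g v = v + (l * G.β v w) • w) ∨
    5 ≤ finrank F V

/-- The constrained centralisers of a geometry. -/
theorem Siegel.exists_normalised (H : Siegel G) (x : S) (hx : orderOf x = p) :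
    ∃ R : Subgroup S, IsPGroup p R ∧ (∀ g : S, Commute g x → ∀ r ∈ R, g * r * g⁻¹ ∈ R) ∧
      ∀ y : S, Commute y x → ¬ p ∣ orderOf y → (∀ r ∈ R, Commute y r) → y ∈ Subgroup.center S := by
  classical
  set N : Module.End F V := G.act x - 1 with hN
  set W := LinearMap.ker N ⊓ LinearMap.range N with hW
  have hWne : W ≠ ⊥ := ker_inf_range_ne_bot (sub_one_pow G.act hx) (sub_one_ne_zero G.act G.inj hx)
  have hiso : ∀ a ∈ W, ∀ b ∈ W, G.β a b = 0 := by
    rintro a ⟨-, v, rfl⟩ b ⟨hb, -⟩
    have hb' : G.act x b = b := sub_eq_zero.1 (LinearMap.mem_ker.1 hb)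
    rw [hN, LinearMap.sub_apply, Module.End.one_apply, G.sub_left]
    nth_rewrite 1 [← hb']
    rw [G.inv, sub_self]
  have hmaps : ∀ g, Commute g x → ∀ w ∈ W, G.act g w ∈ W := by
    rintro g hg w ⟨hk, v, rfl⟩
    refine ⟨LinearMap.mem_ker.2 ?_, G.act g v, (sub_one_comm G.act hg v).symm⟩
    rw [← sub_one_comm G.act hg, LinearMap.mem_ker.1 hk, map_zero]
  refine ⟨G.unip W, G.isPGroup_unip W, fun g hg r hr =>
    G.conj_mem_unip g (hmaps g hg) (hmaps g⁻¹ hg.inv_left) hr, fun y hy hyo hyR => ?_⟩
  set a := G.act y with ha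
  let Wp : Submodule F V :=
    { carrier := {v | ∀ w ∈ W, G.β v w = 0}
      zero_mem' := fun w _ => by simpa using G.smul_left 0 0 w
      add_mem' := fun {u v} hu hv w hw => by rw [G.add_left, hu w hw, hv w hw, add_zero]
      smul_mem' := fun c v hv w hw => by rw [G.smul_left, hv w hw, mul_zero] }
  have hsing : ∀ w ∈ W, G.sing w := fun w hw => H.sing_of w (hiso w hw w hw)
  -- the equation from a Siegel element
  have hE : ∀ w ∈ W, ∀ u ∈ Wp, ∃ k l : F, k ≠ 0 ∧ ∀ v,
      G.β (a v) w • u + (k * G.β (a v) u + l * G.β (a v) w) • w =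
        G.β v w • a u + (k * G.β v u + l * G.β v w) • a w := by
    intro w hw u hu
    obtain ⟨g, k, l, hk, hg⟩ := H.sieg w u (hsing w hw) (hu w hw)
    have hmem : g ∈ G.unip W := by
      refine G.mem_unip.2 ⟨fun z hz => ?_, fun v hv => ?_⟩
      · rw [hg, hiso z hz w hw, G.symm0 _ _ (hu z hz)]
        simp
      · rw [hg, hv w hw, zero_smul, add_zero, add_sub_cancel_left]
        exact W.smul_mem _ hw
    refine ⟨k, l, hk, fun v => ?_⟩
    have h1 : G.act g (a v) = a (G.act g v) := by
      rw [ha, ← Module.End.mul_apply, ← map_mul, ← (hyR g hmem).eq, map_mul, Module.End.mul_apply]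
    rw [hg, hg, map_add, map_add, map_smul, map_smul, add_assoc, add_assoc] at h1
    exact add_left_cancel h1
  have htv : ∀ w ∈ W, ∀ g (l : F), (∀ v, G.act g v = v + (l * G.β v w) • w) →
      ∀ v, (l * G.β (a v) w) • w = (l * G.β v w) • a w := by
    intro w hw g l hg v
    have hmem : g ∈ G.unip W := by
      refine G.mem_unip.2 ⟨fun z hz => ?_, fun v hv => ?_⟩
      · rw [hg, hiso z hz w hw, mul_zero, zero_smul, add_zero]
      · rw [hg, hv w hw, mul_zero, zero_smul, add_zero, sub_self]
        exact zero_mem W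
    have h1 : G.act g (a v) = a (G.act g v) := by
      rw [ha, ← Module.End.mul_apply, ← map_mul, ← (hyR g hmem).eq, map_mul, Module.End.mul_apply]
    rw [hg, hg, map_add, map_smul] at h1
    exact add_left_cancel h1
  have hnd : ∀ w, w ≠ 0 → ∃ v, G.β v w = 1 := by
    intro w hw
    obtain ⟨v, -, hv⟩ := H.sep 0 w (by simpa [Submodule.span_zero_singleton] using hw)
    exact ⟨(G.β v w)⁻¹ • v, by rw [G.smul_left, inv_mul_cancel₀ hv]⟩
  -- the count of dimensions
  have hdim : finrank F V ≤ finrank F W + finrank F Wp := by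
    set b := Module.finBasis F W
    let f : V →ₗ[F] (Fin (finrank F W) → F) :=
      { toFun := fun v i => G.β v (b i : V)
        map_add' := fun u v => funext fun i => G.add_left u v _
        map_smul' := fun c v => funext fun i => G.smul_left c v _ }
    have hker : LinearMap.ker f ≤ Wp := by
      intro v hv w hw
      refine G.symm0 _ _ (G.beta_span (O := Set.range fun i => (b i : V)) ?_ ?_)
      · rintro _ ⟨i, rfl⟩
        exact congrFun (LinearMap.mem_ker.1 hv) i
      · have h1 : (⟨w, hw⟩ : W) ∈ Submodule.span F (Set.range b) := by rw [b.span_eq]; trivial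
        have h2 := Submodule.mem_map_of_mem (f := W.subtype) h1
        rwa [Submodule.map_span, ← Set.range_comp] at h2
    have h1 := f.finrank_range_add_finrank_ker
    have h2 := (LinearMap.range f).finrank_le
    have h3 := Submodule.finrank_mono hker
    rw [Module.finrank_pi, Fintype.card_fin] at h2
    omega
  -- the two cases without transvections
  have hbig : 5 ≤ finrank F V → (∃ u ∈ Wp, u ∉ W) ∨ 3 ≤ finrank F W := by
    intro h5
    by_contra hcon
    push Not at hcon
    have := Submodule.finrank_mono (show Wp ≤ W from fun u hu => hcon.1 u hu)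
    omega
  -- scalar on `W`
  have hline : ∀ w ∈ W, a w ∈ Submodule.span F {w} := by
    intro w hw
    rcases eq_or_ne w 0 with rfl | hw0
    · simp
    obtain ⟨v₀, hv₀⟩ := hnd w hw0
    have hspan : ∀ u ∈ Wp, u ∉ Submodule.span F {w} → ∃ t s : F, a w = t • u + s • w := by
      intro u hu hu'
      obtain ⟨k, l, hk, hkl⟩ := hE w hw u hu
      obtain ⟨v, hv, hv'⟩ := H.sep w u hu'
      have h1 := hkl v
      rw [hv, zero_smul, zero_add, mul_zero, add_zero] at h1
      have hne : k * G.β v u ≠ 0 := mul_ne_zero hk hv'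
      refine ⟨(k * G.β v u)⁻¹ * G.β (a v) w,
        (k * G.β v u)⁻¹ * (k * G.β (a v) u + l * G.β (a v) w), ?_⟩
      rw [mul_smul, mul_smul, ← smul_add, h1, inv_smul_smul₀ hne]
    rcases H.tv with htv' | h5
    · obtain ⟨g, l, hl, hg⟩ := htv' w (hsing w hw)
      have h1 := htv w hw g l hg v₀
      rw [hv₀, mul_one, mul_comm l, mul_smul] at h1
      refine Submodule.mem_span_singleton.2 ⟨G.β (a v₀) w, ?_⟩
      have h2 : l • a w = l • G.β (a v₀) w • w := by
        rw [← h1, ← mul_smul, ← mul_smul, mul_comm]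
      exact (smul_right_injective V hl h2).symm
    rcases hbig h5 with ⟨u, hu, huW⟩ | h3
    · obtain ⟨t, s, e⟩ := hspan u hu fun hu' => huW (Submodule.span_le.2 (by simpa using hw) hu')
      have ht : t • u ∈ W := by
        rw [show t • u = a w - s • w by rw [e]; abel]
        exact sub_mem (hmaps y hy w hw) (W.smul_mem _ hw)
      have ht0 : t = 0 := by
        by_contra hne
        exact huW (by simpa [inv_smul_smul₀ hne] using W.smul_mem t⁻¹ ht)
      exact Submodule.mem_span_singleton.2 ⟨s, by rw [e, ht0, zero_smul, zero_add]⟩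
    · by_contra hcon
      obtain ⟨u, huW, hu⟩ : ∃ u ∈ W, u ∉ Submodule.span F ({w, a w} : Set V) := by
        by_contra hc
        push Not at hc
        have h6 := Submodule.finrank_mono (show W ≤ Submodule.span F ({w, a w} : Set V) from hc)
        have h7 := finrank_span_le_card (R := F) ({w, a w} : Set V)
        have h8 : ({w, a w} : Set V).toFinset.card ≤ 2 := by
          rw [Set.toFinset_insert, Set.toFinset_singleton]
          exact (Finset.card_insert_le _ _).trans (by simp)
        omega
      have hu' : u ∉ Submodule.span F {w} := fun h =>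
        hu (Submodule.span_mono (by simp) h)
      obtain ⟨t, s, e⟩ := hspan u (fun z hz => hiso u huW z hz) hu'
      have ht : t ≠ 0 := fun ht => hcon (Submodule.mem_span_singleton.2 ⟨s, by rw [e, ht]; simp⟩)
      refine hu ?_
      have : u = t⁻¹ • (a w - s • w) := by rw [e, add_sub_cancel_right, inv_smul_smul₀ ht]
      rw [this]
      exact Submodule.smul_mem _ _ (sub_mem (Submodule.subset_span (by simp))
        (Submodule.smul_mem _ _ (Submodule.subset_span (by simp))))
  obtain ⟨c, hc⟩ := exists_scalar hline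
  have hc0 : c ≠ 0 := by
    obtain ⟨w, hw, hw0⟩ := W.exists_mem_ne_zero_of_ne_bot hWne
    intro e
    refine hw0 ?_
    rw [← G.act_inv_act y w, ← ha, hc w hw, e, zero_smul, map_zero]
  have hkill : ∀ w ∈ W, ∀ v, G.β v w = 0 → G.β (a v) w = 0 := by
    intro w hw v hv
    have h1 : G.β (a v) (a w) = 0 := by rw [ha, G.inv]; exact hv
    rw [hc w hw] at h1
    have h2 := G.symm0 _ _ h1
    rw [G.smul_left] at h2
    exact G.symm0 _ _ ((mul_eq_zero.1 h2).resolve_left hc0)
  -- the scalar is the same on `W⊥ / W` and on `V / W⊥`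
  have hmu : ∀ w ∈ W, w ≠ 0 → (∀ v, G.β (a v) w = c * G.β v w) ∧
      ∀ u ∈ Wp, a u - c • u ∈ W := by
    intro w hw hw0
    obtain ⟨v₀, hv₀⟩ := hnd w hw0
    set μ := G.β (a v₀) w with hμ
    have hlin : ∀ v, G.β (a v) w = μ * G.β v w := by
      intro v
      have h1 : G.β (v - G.β v w • v₀) w = 0 := by
        rw [G.sub_left, G.smul_left, hv₀, mul_one, sub_self]
      have h2 := hkill w hw _ h1
      rw [map_sub, map_smul, G.sub_left, G.smul_left, sub_eq_zero] at h2
      rw [h2, mul_comm]
    have hmod : ∀ u ∈ Wp, a u - μ • u ∈ Submodule.span F {w} := by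
      intro u hu
      obtain ⟨k, l, hk, hkl⟩ := hE w hw u hu
      have h1 := hkl v₀
      rw [← hμ, hv₀, one_smul, hc w hw] at h1
      have h2 : a u - μ • u = (k * G.β (a v₀) u + l * μ) • w - (k * G.β v₀ u + l * 1) • c • w := by
        rw [eq_sub_iff_add_eq, sub_add_eq_add_sub, ← h1]
        abel
      rw [h2, smul_smul, ← sub_smul]
      exact Submodule.smul_mem _ _ (Submodule.mem_span_singleton_self w)
    have hμc : μ = c := by
      rcases H.tv with htv' | h5
      · obtain ⟨g, l, hl, hg⟩ := htv' w (hsing w hw)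
        have h1 := htv w hw g l hg v₀
        rw [← hμ, hv₀, hc w hw, smul_smul, mul_one] at h1
        exact mul_left_cancel₀ hl (smul_left_injective F hw0 h1)
      by_cases h2 : ∃ u ∈ W, u ∉ Submodule.span F {w}
      · obtain ⟨u, hu, hu'⟩ := h2
        have h3 := hmod u fun z hz => hiso u hu z hz
        rw [hc u hu, ← sub_smul] at h3
        by_contra hne
        exact hu' (by simpa [inv_smul_smul₀ (sub_ne_zero.2 (Ne.symm hne))] using
          Submodule.smul_mem _ (c - μ)⁻¹ h3)
      push Not at h2
      have hWd : finrank F W ≤ 1 :=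
        (Submodule.finrank_mono (show W ≤ Submodule.span F {w} from h2)).trans
          (finrank_span_singleton hw0).le
      obtain ⟨u, hu, huW⟩ := (hbig h5).resolve_right (by omega)
      obtain ⟨v, hv, hv'⟩ := H.sep w u fun h => huW (Submodule.span_le.2 (by simpa using hw) h)
      have hvp : v ∈ Wp := fun z hz => by
        obtain ⟨t, rfl⟩ := Submodule.mem_span_singleton.1 (h2 z hz)
        refine G.symm0 _ _ ?_
        rw [G.smul_left, G.symm0 _ _ hv, mul_zero]
      obtain ⟨t, ht⟩ := Submodule.mem_span_singleton.1 (hmod v hvp)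
      obtain ⟨k, l, hk, hkl⟩ := hE w hw u hu
      have h4 := hkl v
      rw [hlin, hv, mul_zero, zero_smul, zero_smul, zero_add, zero_add, mul_zero, add_zero, add_zero,
        hc w hw, smul_smul] at h4
      have h5' := smul_left_injective F hw0 h4
      have e : a v = μ • v + t • w := by rw [ht]; abel
      rw [e, G.add_left, G.smul_left, G.smul_left, G.symm0 _ _ (hu w hw), mul_zero, add_zero] at h5'
      exact mul_right_cancel₀ hv' (mul_left_cancel₀ hk (by linear_combination h5'))
    refine ⟨fun v => hμc ▸ hlin v, fun u hu => ?_⟩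
    have h3 := hmod u hu
    rw [hμc] at h3
    exact Submodule.span_le.2 (by simpa using hw) h3
  obtain ⟨w₁, hw₁, hw₁0⟩ := W.exists_mem_ne_zero_of_ne_bot hWne
  refine mem_center_of_cube G.act G.inj hyo (c := c) (LinearMap.ext fun v => ?_)
  set M := a - algebraMap F (Module.End F V) c with hM
  have hMv : ∀ v, M v = a v - c • v := fun v => by simp [hM]
  have h1 : ∀ v, M v ∈ Wp := fun v w hw => by
    rw [hMv, G.sub_left, G.smul_left]
    rcases eq_or_ne w 0 with rfl | hw0
    · have h0 : ∀ z, G.β z (0 : V) = 0 := fun z => G.symm0 _ _ (by simpa using G.smul_left 0 0 z)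
      rw [h0, h0, mul_zero, sub_self]
    · rw [(hmu w hw hw0).1 v, sub_self]
  have h2 : ∀ u ∈ Wp, M u ∈ W := fun u hu => by rw [hMv]; exact (hmu w₁ hw₁ hw₁0).2 u hu
  have h3 : ∀ w ∈ W, M w = 0 := fun w hw => by rw [hMv, hc w hw, sub_self]
  simp only [pow_succ, pow_zero, one_mul, Module.End.mul_apply, LinearMap.zero_apply]
  exact h3 _ (h2 _ (h1 v))

/-- Central quotients of groups of a geometry have constrained centralisers. -/
theorem Siegel.constrained_center (H : Siegel G) (hcen : ¬ p ∣ Nat.card (Subgroup.center S)) :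
    Constrained p (S ⧸ Subgroup.center S) := by
  refine constrained_of_normalised (QuotientGroup.mk'_surjective _)
    (QuotientGroup.ker_mk' _).le (by rw [QuotientGroup.ker_mk']; exact hcen) fun x hx => ?_
  obtain ⟨R, h1, h2, h3⟩ := H.exists_normalised G x hx
  exact ⟨R, h1, h2, fun y hy hyo hyR => (QuotientGroup.eq_one_iff y).2 (h3 y hy hyo hyR)⟩

end Forms

/-! ### Linear groups -/

section Linear

open Matrix

variable {F : Type*} [Field F] [Fintype F] {p : ℕ} [Fact p.Prime] [CharP F p] {n : ℕ}

local notation "V" => (Fin n → F)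

omit [Fintype F] in
theorem exists_dual_vanishing {U : Submodule F V} {x : V} (hx : x ∉ U) :
    ∃ φ : V, φ ⬝ᵥ x = 1 ∧ ∀ u ∈ U, φ ⬝ᵥ u = 0 := by
  obtain ⟨f, hfx, hf⟩ := Submodule.exists_dual_map_eq_bot_of_notMem hx inferInstance
  have hd : ∀ v : V, (fun i => f (Pi.single i 1)) ⬝ᵥ v = f v := fun v => by
    conv_rhs => rw [pi_eq_sum_univ' v]
    simp [dotProduct, map_sum, mul_comm]
  refine ⟨(f x)⁻¹ • fun i => f (Pi.single i 1), ?_, fun u hu => ?_⟩
  · rw [smul_dotProduct, hd, smul_eq_mul, inv_mul_cancel₀ hfx]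
  · have : f u ∈ U.map f := ⟨u, hu, rfl⟩
    rw [hf, Submodule.mem_bot] at this
    rw [smul_dotProduct, hd, this, smul_zero]

/-- Special linear groups. -/
theorem constrained_psl : Constrained p (Matrix.ProjectiveSpecialLinearGroup (Fin n) F) := by
  refine constrained_of_normalised (π := QuotientGroup.mk' _) (QuotientGroup.mk'_surjective _)
    (QuotientGroup.ker_mk' _).le ?_ fun x hx => ?_
  · rw [QuotientGroup.ker_mk']
    intro hdvd
    obtain ⟨⟨g, hg⟩, hord⟩ := exists_prime_orderOf_dvd_card' p hdvd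
    have hord : orderOf g = p :=
      (Subgroup.orderOf_coe (⟨g, hg⟩ : Subgroup.center (Matrix.SpecialLinearGroup (Fin n) F))).trans hord
    obtain ⟨r, -, hr⟩ := Matrix.SpecialLinearGroup.mem_center_iff.1 hg
    refine sub_one_ne_zero (slGeo (F := F) (n := n)).act slGeo.inj hord (LinearMap.ext fun v => ?_)
    have h0 := LinearMap.congr_fun (sub_one_pow (slGeo (F := F) (n := n)).act hord) v
    have hs : ∀ u : V, (slGeo.act g - 1) u = (r - 1) • u := fun u => by
      rw [LinearMap.sub_apply, Module.End.one_apply, slGeo_act, ← hr, sub_smul, one_smul,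
        Matrix.scalar_apply]
      congr 1
      funext i
      simp [Matrix.mulVec_diagonal]
    have hpow : ∀ (j : ℕ) (u : V), ((slGeo.act g - 1) ^ j) u = (r - 1) ^ j • u := by
      intro j
      induction j with
      | zero => simp
      | succ j ih => intro u; rw [pow_succ', Module.End.mul_apply, ih, hs, smul_smul, ← pow_succ']
    rw [hpow, LinearMap.zero_apply] at h0
    rw [hs, LinearMap.zero_apply]
    rcases smul_eq_zero.1 h0 with h | h
    · rw [eq_zero_of_pow_eq_zero h, zero_smul]
    · rw [h, smul_zero]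
  set act := (slGeo (F := F) (n := n)).act with hact
  set N : Module.End F V := act x - 1 with hN
  set W := LinearMap.ker N ⊓ LinearMap.range N with hW
  set K := LinearMap.ker N ⊔ LinearMap.range N with hK
  have hNp := sub_one_pow act hx
  have hN0 := sub_one_ne_zero act slGeo.inj hx
  have hWK : W ≤ K := inf_le_left.trans le_sup_left
  have hact_inv : ∀ (g : Matrix.SpecialLinearGroup (Fin n) F) (v : V), act g (act g⁻¹ v) = v :=
    slGeo.act_act_inv
  have hact_inv' : ∀ (g : Matrix.SpecialLinearGroup (Fin n) F) (v : V), act g⁻¹ (act g v) = v :=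
    slGeo.act_inv_act
  let R : Subgroup (Matrix.SpecialLinearGroup (Fin n) F) :=
    { carrier := {g | (∀ w ∈ W, act g w = w) ∧ (∀ v ∈ K, act g v - v ∈ W) ∧ ∀ v, act g v - v ∈ K}
      one_mem' := ⟨fun w _ => by simp, fun v _ => by simp, fun v => by simp⟩
      mul_mem' := by
        rintro g k ⟨g1, g2, g3⟩ ⟨k1, k2, k3⟩
        have e : ∀ v, act (g * k) v - v = (act g (act k v) - act k v) + (act k v - v) := fun v => by
          rw [map_mul, Module.End.mul_apply]; abel
        refine ⟨fun w hw => by rw [map_mul, Module.End.mul_apply, k1 w hw, g1 w hw], fun v hv => ?_,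
          fun v => by rw [e]; exact add_mem (g3 _) (k3 v)⟩
        rw [e]
        refine add_mem (g2 _ ?_) (k2 v hv)
        simpa using K.add_mem (hWK (k2 v hv)) hv
      inv_mem' := by
        rintro g ⟨g1, g2, g3⟩
        have hfix : ∀ w ∈ W, act g⁻¹ w = w := fun w hw => by
          nth_rewrite 1 [← g1 w hw]
          exact hact_inv' g w
        have h3 : ∀ v, act g⁻¹ v - v ∈ K := fun v => by
          have := g3 (act g⁻¹ v)
          rw [hact_inv] at this
          simpa using K.neg_mem this
        refine ⟨hfix, fun v hv => ?_, h3⟩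
        have hv' : act g⁻¹ v ∈ K := by simpa using K.add_mem (h3 v) hv
        have := g2 _ hv'
        rw [hact_inv] at this
        simpa using W.neg_mem this }
  have hR : IsPGroup p R := by
    intro g
    obtain ⟨g1, g2, g3⟩ := g.2
    refine ⟨2, Subtype.ext (slGeo.inj ?_)⟩
    rw [SubgroupClass.coe_pow, map_pow, OneMemClass.coe_one, map_one, ← hact]
    rcases subsingleton_or_nontrivial (Module.End F V) with h | h
    · exact Subsingleton.elim _ _
    haveI : CharP (Module.End F V) p :=
      charP_of_injective_algebraMap (algebraMap F (Module.End F V)).injective p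
    haveI : ExpChar (Module.End F V) p := ExpChar.prime Fact.out
    have hp3 : 3 ≤ p ^ 2 := by have := (Fact.out : p.Prime).two_le; nlinarith
    have hcube : (act (g : _) - 1) ^ 3 = 0 := LinearMap.ext fun v => by
      simp only [pow_succ, pow_zero, one_mul, Module.End.mul_apply, LinearMap.zero_apply,
        LinearMap.sub_apply, Module.End.one_apply]
      rw [g1 _ (g2 _ (g3 v)), sub_self]
    rw [show act (g : _) = 1 + (act (g : _) - 1) by abel,
      add_pow_expChar_pow_of_commute p 2 (Commute.one_left _), one_pow, pow_eq_zero_of_le hp3 hcube,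
      add_zero]
  have hmapK : ∀ g, Commute g x → ∀ v ∈ K, act g v ∈ K := by
    intro g hg v hv
    obtain ⟨k, hk, z, ⟨u, rfl⟩, rfl⟩ := Submodule.mem_sup.1 hv
    rw [map_add]
    refine Submodule.add_mem_sup (LinearMap.mem_ker.2 ?_) ⟨act g u, (sub_one_comm act hg u).symm⟩
    rw [← sub_one_comm act hg, LinearMap.mem_ker.1 hk, map_zero]
  have hmapW : ∀ g, Commute g x → ∀ v ∈ W, act g v ∈ W := by
    rintro g hg w ⟨hk, v, rfl⟩
    refine ⟨LinearMap.mem_ker.2 ?_, act g v, (sub_one_comm act hg v).symm⟩
    rw [← sub_one_comm act hg, LinearMap.mem_ker.1 hk, map_zero]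
  refine ⟨R, hR, fun g hg r hr => ?_, fun y hy hyo hyR => ?_⟩
  · have e : ∀ v, act (g * r * g⁻¹) v - v = act g (act r (act g⁻¹ v) - act g⁻¹ v) := fun v => by
      rw [map_sub, hact_inv, map_mul, map_mul, Module.End.mul_apply, Module.End.mul_apply]
    exact ⟨fun w hw => by
        rw [map_mul, map_mul, Module.End.mul_apply, Module.End.mul_apply,
          hr.1 _ (hmapW g⁻¹ hg.inv_left w hw), hact_inv],
      fun v hv => by rw [e]; exact hmapW g hg _ (hr.2.1 _ (hmapK g⁻¹ hg.inv_left v hv)),
      fun v => by rw [e]; exact hmapK g hg _ (hr.2.2 _)⟩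
  have htv : ∀ (φ b : V), φ ⬝ᵥ b = 0 → ((∀ v ∈ K, φ ⬝ᵥ v = 0) ∧ b ∈ K ∨
      (∀ v ∈ W, φ ⬝ᵥ v = 0) ∧ b ∈ W) → ∀ v, (φ ⬝ᵥ act y v) • b = (φ ⬝ᵥ v) • act y b := by
    intro φ b h0 hor v
    obtain ⟨g, hg⟩ := exists_tv h0
    have hmem : g ∈ R := by
      rcases hor with ⟨hφ, hb⟩ | ⟨hφ, hb⟩
      · exact ⟨fun w hw => by rw [hact, hg, hφ w (hWK hw), zero_smul, add_zero],
          fun v hv => by rw [hact, hg, hφ v hv, zero_smul, add_zero, sub_self]; exact zero_mem W,
          fun v => by rw [hact, hg, add_sub_cancel_left]; exact K.smul_mem _ hb⟩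
      · exact ⟨fun w hw => by rw [hact, hg, hφ w hw, zero_smul, add_zero],
          fun v _ => by rw [hact, hg, add_sub_cancel_left]; exact W.smul_mem _ hb,
          fun v => by rw [hact, hg, add_sub_cancel_left]; exact K.smul_mem _ (hWK hb)⟩
    have h1 : act g (act y v) = act y (act g v) := by
      rw [← Module.End.mul_apply, ← map_mul, ← (hyR g hmem).eq, map_mul, Module.End.mul_apply]
    rw [hact, hg, hg, ← hact, map_add, map_smul] at h1
    exact add_left_cancel h1
  obtain ⟨v₀, hv₀⟩ : ∃ v, v ∉ K := by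
    by_contra hc
    push Not at hc
    exact ker_sup_range_ne_top hNp hN0 (Submodule.eq_top_iff'.2 hc)
  obtain ⟨φ, hφ, hφK⟩ := exists_dual_vanishing hv₀
  set c := φ ⬝ᵥ act y v₀ with hc
  have hyK : ∀ b ∈ K, act y b = c • b := by
    intro b hb
    have := htv φ b (hφK b hb) (Or.inl ⟨hφK, hb⟩) v₀
    rw [hφ, one_smul] at this
    exact this.symm
  have hyW : ∀ v, act y v - c • v ∈ W := by
    intro v
    by_contra hcon
    obtain ⟨ψ, hψ, hψW⟩ := exists_dual_vanishing hcon
    obtain ⟨b, hb, hb0⟩ := W.exists_mem_ne_zero_of_ne_bot (ker_inf_range_ne_bot hNp hN0)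
    have := htv ψ b (hψW b hb) (Or.inr ⟨hψW, hb⟩) v
    rw [hyK b (hWK hb), smul_smul] at this
    have e := smul_left_injective F hb0 this
    rw [dotProduct_sub, dotProduct_smul, e, smul_eq_mul, mul_comm, sub_self] at hψ
    exact zero_ne_one hψ
  refine (QuotientGroup.eq_one_iff y).2 (mem_center_of_cube act slGeo.inj hyo (c := c)
    (LinearMap.ext fun v => ?_))
  simp only [pow_succ, pow_zero, one_mul, Module.End.mul_apply, LinearMap.zero_apply]
  set M := act y - algebraMap F (Module.End F V) c with hM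
  have h1 : ∀ u, M u = act y u - c • u := fun u => by simp [hM]
  have h2 : M (M v) = 0 := by rw [h1 (M v), h1 v, hyK _ (hWK (hyW v)), sub_self]
  rw [h2, map_zero]

end Linear

end Cfsg.Agent.Lie.DefChar
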