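import Cfsg.Agent.Lib.Lie.DefChar.Classical

/-!
The symplectic, unitary and orthogonal geometries have the Siegel elements.
-/

set_option autoImplicit false
set_option linter.unusedSectionVars false
set_option quotPrecheck false
set_option maxHeartbeats 1000000

namespace Cfsg.Agent.Lie.DefChar

open Matrix Module Cfsg.Agent.Lie.Over Cfsg.Agent.Classical

variable {F : Type*} [Field F] [Fintype F] {p : ℕ} [Fact p.Prime] [CharP F p]

omit [Fintype F] [Fact p.Prime] [CharP F p] in
/-- Separation from semilinearity in the second variable and nondegeneracy. -/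
theorem sep_of_right {V : Type*} [AddCommGroup V] [Module F V] {S : Type*} [Group S] (G : Geo F V S)
    (hnd : ∀ z : V, z ≠ 0 → ∃ v, G.β v z ≠ 0)
    (hr : ∀ (t : F) (u w : V), ∃ s : F, ∀ v, G.β v (u - s • w) = G.β v u - t * G.β v w) (w u : V)
    (hu : u ∉ Submodule.span F {w}) : ∃ v, G.β v w = 0 ∧ G.β v u ≠ 0 := by
  rcases eq_or_ne w 0 with rfl | hw
  · obtain ⟨v, hv⟩ := hnd u fun e => hu (by rw [e]; exact zero_mem _)
    exact ⟨v, G.symm0 _ _ (by simpa using G.smul_left 0 0 v), hv⟩
  obtain ⟨v₁, hv₁⟩ := hnd w hw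
  set v₀ := (G.β v₁ w)⁻¹ • v₁ with hv₀
  have h1 : G.β v₀ w = 1 := by rw [hv₀, G.smul_left, inv_mul_cancel₀ hv₁]
  obtain ⟨s, hs⟩ := hr (G.β v₀ u) u w
  obtain ⟨v', hv'⟩ := hnd (u - s • w) fun e =>
    hu (Submodule.mem_span_singleton.2 ⟨s, (sub_eq_zero.1 e).symm⟩)
  rw [hs] at hv'
  refine ⟨v' - G.β v' w • v₀, by rw [G.sub_left, G.smul_left, h1, mul_one, sub_self], ?_⟩
  rw [G.sub_left, G.smul_left, mul_comm]
  exact hv'

section Symplectic

open Cfsg.Agent.Classical.PSpAut

variable {m : ℕ}

local notation "b" => sympForm m F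

theorem siegel_sp : Siegel (spGeo (F := F) (m := m)) where
  sing_of _ _ := trivial
  sep := sep_of_right _
    (fun z hz => by
      by_contra hcon
      push Not at hcon
      refine hz (eq_zero_of_sympForm_eq_zero fun v => ?_)
      rw [sympForm_swap, show b v z = 0 from hcon v, neg_zero])
    (fun t u w => ⟨t, fun v => by
      show b v (u - t • w) = b v u - t * b v w
      rw [sub_eq_add_neg, ← neg_smul, sympForm_add_right, sympForm_smul_right]; ring⟩)
  sieg w u _ hu := by
    have hu' : b u w = 0 := hu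
    have hwu : b w u = 0 := by rw [sympForm_swap, hu', neg_zero]
    refine ⟨sympTv (w + u) 1 * sympTv w (-1) * sympTv u (-1), 1, 0, one_ne_zero, fun v => ?_⟩
    rw [map_mul, map_mul, Module.End.mul_apply, Module.End.mul_apply, spGeo_act, spGeo_act,
      spGeo_act, sympTv_apply, sympTv_apply, sympTv_apply, spGeo_beta, spGeo_beta]
    simp only [sympForm_add_left, sympForm_add_right, sympForm_smul_left, sympForm_self, hu', hwu,
      mul_zero, add_zero, zero_add, one_mul, zero_mul]
    module
  tv := Or.inl fun w _ => ⟨sympTv w 1, 1, one_ne_zero, fun v => by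
    rw [spGeo_act, sympTv_apply, spGeo_beta]⟩

theorem constrained_psp (hm : 1 ≤ m) : Constrained p (Cfsg.PSp m F) :=
  (siegel_sp (F := F) (m := m)).constrained_center _
    ((spGeo (F := F) (m := m)).not_dvd_center (sp_core (p := p) hm).fix (sp_core (p := p) hm).move
      (sp_core (p := p) hm).conn (sp_core (p := p) hm).span)

end Symplectic

section Unitary

open Cfsg.Agent.Classical.PSUAut

variable {n q : ℕ}

local notation "V" => (Fin n → F)
local notation "h" => hermForm n F q

theorem siegel_su (hF : Fintype.card F = q ^ 2) : Siegel (suGeo (n := n) hF) where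
  sing_of _ hx := hx
  sep := sep_of_right _
    (fun z hz => by
      obtain ⟨v, hv⟩ := exists_h_eq hF hz 1
      refine ⟨v, fun e => one_ne_zero (α := F) ?_⟩
      rw [← hv]
      exact h_comm_zero hF e)
    (fun t u w => ⟨qFrob hF t, fun v => by
      show h v (u - qFrob hF t • w) = h v u - t * h v w
      rw [h_sub_right hF, h_smul_right hF, cj_cj hF]⟩)
  sieg w u hw hu := by
    obtain ⟨c, hc⟩ := exists_trace_eq hF (a := -h u u) (by rw [map_neg, cj_h_self hF])
    have H : EOK (q := q) w u c := ⟨hw, hu, by rw [cj_pow hF]; linear_combination hc⟩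
    obtain ⟨g, hg⟩ := exists_eSU hF H
    refine ⟨g, -1, c, neg_ne_zero.2 one_ne_zero, fun v => ?_⟩
    rw [hg, eMat_mulVec]
    show _ = v + h v w • u + (-1 * h v u + c * h v w) • w
    module
  tv := Or.inl fun w hw => by
    obtain ⟨t, ht0, ht⟩ := exists_trace_zero hF
    have H : EOK (q := q) w 0 t :=
      ⟨hw, h_zero_left w, by rw [cj_pow hF, h_zero_left, add_zero]; exact ht⟩
    obtain ⟨g, hg⟩ := exists_eSU hF H
    refine ⟨g, t, ht0, fun v => ?_⟩
    rw [hg, eMat_mulVec, h_zero_right hF]
    show _ = v + (t * h v w) • w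
    module

theorem constrained_psu (hF : Fintype.card F = q ^ 2) (hn : 3 ≤ n) :
    Constrained p (Cfsg.PSU n F q) :=
  (siegel_su (n := n) hF).constrained_center _
    ((suGeo (n := n) hF).not_dvd_center (su_core (p := p) hF hn).fix (su_core (p := p) hF hn).move
      (su_core (p := p) hF hn).conn (su_core (p := p) hF hn).span)

end Unitary

section Orthogonal

open Cfsg.Agent.Classical.OrthAut

variable {ι : Type} [Fintype ι] [DecidableEq ι] {Q : QuadraticForm F (ι → F)}

local notation "B" => QuadraticMap.polar ⇑Q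

theorem siegel_omega (h2 : (2 : F) ≠ 0) (hQ : (QuadraticMap.polarBilin Q).Nondegenerate) (hT : Tri Q)
    (hn : 5 ≤ Fintype.card ι) : Siegel (omGeo Q) where
  sing_of x hx := by
    have hx' : B x x = 0 := hx
    rw [QuadraticMap.polar_self, two_nsmul, ← two_mul] at hx'
    exact (mul_eq_zero.1 hx').resolve_left h2
  sep := sep_of_right _
    (fun z hz => by
      by_contra hcon
      push Not at hcon
      refine hz (hQ.1 z fun v => ?_)
      show B z v = 0
      rw [QuadraticMap.polar_comm]
      exact hcon v)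
    (fun t u w => ⟨t, fun v => by
      show B v (u - t • w) = B v u - t * B v w
      rw [QuadraticMap.polar_sub_right, QuadraticMap.polar_smul_right, smul_eq_mul]⟩)
  sieg w u hw hu := by
    have hu' : B u w = 0 := hu
    obtain ⟨g, hg⟩ := exists_eOm' hQ hT (e := w) (w := u)
      ⟨hw, by rw [QuadraticMap.polar_comm]; exact hu'⟩
    refine ⟨g, -1, -Q u, neg_ne_zero.2 one_ne_zero, fun v => ?_⟩
    rw [hg, eMat_mulVec, QuadraticMap.polar_comm _ w v, QuadraticMap.polar_comm _ u v]
    show _ = v + B v w • u + (-1 * B v u + -Q u * B v w) • w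
    module
  tv := Or.inr (by rw [Module.finrank_pi]; exact hn)

theorem constrained_omega (h2 : (2 : F) ≠ 0) (hQ : (QuadraticMap.polarBilin Q).Nondegenerate)
    (hT : Tri Q) (hn : 5 ≤ Fintype.card ι) : Constrained p (Cfsg.POmega F ⇑Q) :=
  (siegel_omega h2 hQ hT hn).constrained_center _
    ((omGeo Q).not_dvd_center (om_core (p := p) hQ hT hn).fix (om_core (p := p) hQ hT hn).move
      (om_core (p := p) hQ hT hn).conn (om_core (p := p) hQ hT hn).span)

end Orthogonal

end Cfsg.Agent.Lie.DefChar
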