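import Cfsg.Agent.Lib.Lie.DefChar.Basic
import Cfsg.Agent.Lib.Lie.Over.BN

/-!
Simple groups with a split (B,N)-pair: a `p`-subgroup which is, above every Sylow subgroup, an
intersection of two Sylow subgroups conjugate under its centraliser is trivial or a Sylow subgroup.

For a Sylow subgroup above the subgroup `D` the intersection is `U ∩ U^w` with a representative
centralising it. An ascent `a` of such a `w` commutes with `w`. If `R` is the set of descents of `w`,
moving the chamber by the longest element of `W_R` makes every `a` not commuting with `R` a descent,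
so a maximal set of descents is empty or everything.
-/

set_option autoImplicit false
set_option linter.unusedSectionVars false

namespace Cfsg.Agent.Lie.Over

open Cfsg.Agent.Lie Cfsg.Agent.Char.BNRed Cfsg.Agent.Char.StBN

variable {G : Type*} [Group G] [Finite G] {P : Cfsg.BNPair G} {p : ℕ} [Fact p.Prime] {U : Subgroup G}

namespace Split

variable (h : Split P p U)
include h

theorem conj_mem_cj {s : P.S} {b z : G} (hb : b ∈ P.B) (hz : z ∈ U)
    (hz' : z ∈ cj P U (refl P s)) : b * z * b⁻¹ ∈ cj P U (refl P s) := by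
  obtain ⟨u, hu, ht⟩ := h.split b hb
  have htB : u⁻¹ * b ∈ P.B := mul_mem (inv_mem (h.le hu)) hb
  have ht' := P.conj_mem (s : G)⁻¹ (P.N.inv_mem (P.subset s.2)) (u⁻¹ * b) ⟨htB, ht⟩
  have h1 : (s : G)⁻¹ * (u⁻¹ * b * z * (u⁻¹ * b)⁻¹) * s ∈ U := by
    have := h.conj _ ht' _ (h.mem_cj_refl.1 hz')
    simpa [mul_assoc] using this
  have h2 := h.inter_normal s u hu _ (h.conj _ htB z hz) h1
  rw [h.mem_cj_refl]
  rwa [show u * (u⁻¹ * b * z * (u⁻¹ * b)⁻¹) * u⁻¹ = b * z * b⁻¹ by group] at h2

theorem conj_mem_cj_iff {s : P.S} {b z : G} (hb : b ∈ P.B) (hz : z ∈ U) :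
    b * z * b⁻¹ ∈ cj P U (refl P s) ↔ z ∈ cj P U (refl P s) := by
  refine ⟨fun h1 => ?_, h.conj_mem_cj hb hz⟩
  have := h.conj_mem_cj (inv_mem hb) (h.conj b hb z hz) h1
  simpa [mul_assoc] using this

theorem mem_cj_one {z : G} : z ∈ cj P U 1 ↔ z ∈ U := by
  rw [← map_one (proj P), h.mem_cj]
  simp

omit h in
/-- A reflection outside `W_J` ascends every element of `W_J`. -/
theorem ascent_of_para {J : Set G} {v : Weyl P} (hv : v ∈ weylPara P J) {a : P.S}
    (ha : (a : G) ∉ J) : len P v < len P (refl P a * v) := by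
  refine lt_of_le_of_ne ?_ (len_refl_mul_ne P a v).symm
  by_contra hlt
  rw [not_le] at hlt
  obtain ⟨l, hl, rfl, hlJ⟩ := reduced_word_of_mem P hv
  obtain ⟨i, -, e⟩ := exchange P l hl hlt
  refine ha ((refl_mem_weylPara_iff P).1 ?_)
  have h1 : refl P a * wprod P l ∈ weylPara P J :=
    e ▸ wprod_mem_weylPara P fun t ht => hlJ t (List.mem_of_mem_eraseIdx ht)
  simpa using mul_mem h1 (inv_mem hv)

omit h in
/-- Coset representatives add lengths on the left. -/
theorem len_mul_left {J : Set G} {u z : Weyl P} (hu : u ∈ weylPara P J) (hz : LA P J z) :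
    len P (u * z) = len P u + len P z := by
  have := len_mul P (J := J) (w := z⁻¹) (v := u⁻¹) ((RA_inv P).2 hz) (inv_mem hu)
  rw [← mul_inv_rev, len_inv, len_inv, len_inv] at this
  omega

/-- The intersection of `U` and its opposite is trivial in a simple group. -/
theorem inter_longest [IsSimpleGroup G] (s₀ : P.S) {x : Weyl P}
    (hx : ∀ s : P.S, len P (refl P s * x) < len P x) {z : G} (hz : z ∈ U) (hz' : z ∈ cj P U x) :
    z = 1 := by
  set K := U ⊓ cj P U x with hK
  have hadd := len_add_of_all_descents P hx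
  have hKle : ∀ (v : Weyl P) {e : G}, e ∈ K → e ∈ cj P U v := by
    intro v e he
    have := h.inter_le (v := v) (u := v⁻¹ * x) (by rw [mul_inv_cancel_left, hadd])
    rw [mul_inv_cancel_left] at this
    exact this he
  have hback : ∀ (s : P.S) {e : G}, e ∈ K → (s : G) * e * (s : G)⁻¹ ∈ K := by
    intro s e he
    refine ⟨h.sq_conj.1 (h.mem_cj_refl.1 (hKle _ he)), ?_⟩
    have h1 := hKle (refl P s * x) he
    rw [← refl_cancel P s x]
    refine (h.conj_cj (n := sN P s) (v := refl P s * x)).2 ?_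
    simpa [sN, mul_assoc] using h1
  have hfwd : ∀ (s : P.S) {e : G}, e ∈ K → (s : G)⁻¹ * e * s ∈ K := by
    intro s e he
    exact ⟨h.mem_cj_refl.1 (hKle _ he), (h.conj_cj (n := sN P s) (v := x)).1 (hKle _ he)⟩
  have hsN : ∀ s : P.S, (s : G) ∈ Subgroup.normalizer (K : Set G) := fun s =>
    Subgroup.mem_normalizer_iff.2 fun e => ⟨hback s, fun he => by
      simpa [mul_assoc] using hfwd s he⟩
  have hlN : ∀ s : P.S, U ⊓ cj P U (refl P s * x) ≤ Subgroup.normalizer (K : Set G) := by
    intro s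
    have key : ∀ l ∈ U ⊓ cj P U (refl P s * x), ∀ e ∈ K, l * e * l⁻¹ ∈ K := by
      intro l hl e he
      have h1 : (s : G)⁻¹ * (l * e * l⁻¹) * s ∈ U :=
        h.inter_normal s l hl.1 e he.1 (h.mem_cj_refl.1 (hKle _ he))
      have h2 : l * e * l⁻¹ ∈ cj P U (refl P s * x) :=
        mul_mem (mul_mem hl.2 (hKle _ he)) (inv_mem hl.2)
      have h3 : (s : G)⁻¹ * (l * e * l⁻¹) * s ∈ K := ⟨h1, by
        exact (h.conj_cj (n := sN P s) (v := x)).1 h2⟩
      simpa [mul_assoc] using hback s h3
    intro l hl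
    exact Subgroup.mem_normalizer_iff.2 fun e => ⟨key l hl e, fun he => by
      simpa [mul_assoc] using key l⁻¹ (inv_mem hl) _ he⟩
  have hall : ∀ (k : ℕ) (w : Weyl P), len P w = k → ∀ g ∈ cell P w,
      ∃ r ∈ Subgroup.normalizer (K : Set G), r⁻¹ * g ∈ P.B := by
    intro k
    induction k using Nat.strong_induction_on with
    | _ k ih =>
    intro w hk g hg
    subst hk
    by_cases hw : w = 1
    · subst hw; rw [cell_one] at hg; exact ⟨1, one_mem _, by simpa using hg⟩
    obtain ⟨s, hs⟩ := exists_first P w hw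
    obtain ⟨a, ha, y, hy, rfl⟩ := split_first (s := s) (w := w) (by omega) hg
    obtain ⟨q, hq, hqb⟩ := h.inter_transitive (s := s) (w := refl P s * x)
      (by rw [refl_cancel]; exact hx s) ha
    obtain ⟨r, hr, hrb⟩ := ih _ (by omega) (refl P s * w) rfl _ (cell_B_mul P hqb hy)
    exact ⟨q * s * r, mul_mem (mul_mem (hlN s hq) (hsN s)) hr, by simpa [mul_assoc] using hrb⟩
  have hU : Subgroup.normalClosure (K : Set G) ≤ U := by
    refine (Subgroup.closure_le U).2 fun e he => ?_
    obtain ⟨a, ha, hconj⟩ := Group.mem_conjugatesOfSet_iff.1 he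
    obtain ⟨g, rfl⟩ := isConj_iff.1 hconj
    obtain ⟨w, hw⟩ := exists_cell P g⁻¹
    obtain ⟨r, hr, hrb⟩ := hall _ w rfl g⁻¹ hw
    have h1 : r⁻¹ * a * r ∈ K := by
      have := (Subgroup.mem_normalizer_iff.1 (inv_mem hr) a).1 ha
      rwa [inv_inv] at this
    have := h.conj _ (inv_mem hrb) _ h1.1
    simpa [mul_assoc] using this
  rcases Subgroup.Normal.eq_bot_or_eq_top (Subgroup.normalClosure_normal (s := (K : Set G))) with
    e | e
  · exact Subgroup.mem_bot.1 (e ▸ Subgroup.subset_normalClosure (show z ∈ K from ⟨hz, hz'⟩))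
  · exact absurd (h.le (hU (e ▸ Subgroup.mem_top (s₀ : G)))) (s_notMem_B P s₀)

/-- An ascent of an element with a representative centralising `U ∩ U^w` commutes with it. -/
theorem ascent_commute {n : P.N} {b : G} (hb : b ∈ P.B)
    (hcomm : ∀ e ∈ U ⊓ cj P U (proj P n), Commute ((n : G) * b) e) {a : P.S}
    (ha : len P (proj P n) < len P (refl P a * proj P n)) :
    refl P a * proj P n = proj P n * refl P a := by
  set w := proj P n with hw
  have hkey : ∀ e ∈ U ⊓ cj P U w, (e ∈ cj P U (refl P a) ↔ e ∈ cj P U (w * refl P a)) := by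
    intro e he
    have h1 : b * e * b⁻¹ = (n : G)⁻¹ * e * n := by
      have h2 : (n : G) * b * e = e * ((n : G) * b) := hcomm e he
      calc b * e * b⁻¹ = (n : G)⁻¹ * ((n : G) * b * e) * b⁻¹ := by group
        _ = (n : G)⁻¹ * e * n := by rw [h2]; group
    rw [← h.conj_mem_cj_iff hb he.1, h1]
    exact h.conj_cj.symm
  obtain ⟨y, hy, hy', hy''⟩ := h.exists_moving ha
  have hne : len P (w * refl P a) ≠ len P w := by
    rw [← len_inv P, ← len_inv P w, mul_inv_rev, refl_inv]
    exact len_refl_mul_ne P a w⁻¹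
  have hup : len P w < len P (w * refl P a) := by
    by_contra hcon
    refine hy'' ((hkey y ⟨hy, hy'⟩).2 ?_)
    have h1 := h.inter_le (v := w * refl P a) (u := refl P a)
    rw [mul_assoc, refl_mul_self, mul_one] at h1
    refine h1 ?_ ⟨hy, hy'⟩
    have h2 := len_mul_le P (w * refl P a) (refl P a)
    rw [mul_assoc, refl_mul_self, mul_one, len_refl] at h2
    rw [len_refl]
    omega
  have hlen : len P (w * refl P a) = len P w + 1 := by
    have h2 := len_mul_le P w (refl P a)
    rw [len_refl] at h2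
    omega
  have hdesc : len P (refl P a * (w * refl P a)) < len P (w * refl P a) := by
    by_contra hcon
    obtain ⟨y, hy, hy', hy''⟩ := h.exists_moving
      (lt_of_le_of_ne (not_lt.1 hcon) (len_refl_mul_ne P a (w * refl P a)).symm)
    refine hy'' ((hkey y ⟨hy, ?_⟩).2 hy')
    exact h.inter_le (v := w) (u := refl P a) (by rw [hlen, len_refl]) ⟨hy, hy'⟩
  obtain ⟨l, hl, el⟩ := exists_reduced P w
  have hred : (l ++ [a]).length = len P (wprod P (l ++ [a])) := by
    simp [wprod_append, el, hl, hlen]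
  obtain ⟨i, hi, e⟩ := exchange P (l ++ [a]) hred
    (by simpa [wprod_append, el] using hdesc)
  rw [List.length_append, List.length_singleton] at hi
  rw [wprod_append, el, wprod_cons, wprod_nil, mul_one] at e
  rcases Nat.lt_or_ge i l.length with hi' | hi'
  · exfalso
    rw [List.eraseIdx_append_of_lt_length hi', wprod_append, wprod_cons, wprod_nil, mul_one,
      ← mul_assoc] at e
    have e' := mul_right_cancel e
    have h1 := len_le P (l.eraseIdx i)
    rw [← e', List.length_eraseIdx_of_lt hi'] at h1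
    omega
  · obtain rfl : i = l.length := by omega
    rw [List.eraseIdx_append_of_length_le le_rfl] at e
    simp only [Nat.sub_self, List.eraseIdx_cons_zero, List.append_nil, el] at e
    calc refl P a * w = refl P a * (refl P a * (w * refl P a)) := by rw [e]
      _ = w * refl P a := refl_cancel P a _

omit h in
/-- The descents of an element with a representative centralising `U ∩ U^w`, if closed, are
everything; moving by their longest element adds a descent. -/
theorem descent_step {w x : Weyl P} {J : Set G} {a r : P.S}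
    (hJ : ∀ s : P.S, (s : G) ∈ J → len P (refl P s * w) < len P w)
    (hxJ : x ∈ weylPara P J) (hxd : ∀ s : P.S, (s : G) ∈ J → len P (refl P s * x) < len P x)
    (ha : (a : G) ∉ J) (haw : len P w < len P (refl P a * w))
    (hcomm : refl P a * w = w * refl P a) (hr : (r : G) ∈ J)
    (hne : refl P a * refl P r ≠ refl P r * refl P a) :
    len P (x * refl P a) + len P ((x * refl P a)⁻¹ * w) = len P w := by
  have hadd := fun {v : Weyl P} (hv : v ∈ weylPara P J) => len_add_of_descents (P := P) hJ hv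
  have hax := ascent_of_para hxJ ha
  set z := x⁻¹ * w with hz
  have hwz : w = x * z := by rw [hz, mul_inv_cancel_left]
  have hxz : len P x + len P z = len P w := hadd hxJ
  suffices hlt : len P (refl P a * z) < len P z by
    have e : (x * refl P a)⁻¹ * w = refl P a * z := by rw [mul_inv_rev, refl_inv, mul_assoc, ← hz]
    have h1 := len_mul_le P (x * refl P a) ((x * refl P a)⁻¹ * w)
    rw [mul_inv_cancel_left] at h1
    have h2 := len_mul_le P x (refl P a)
    rw [len_refl] at h2
    rw [e] at h1 ⊢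
    omega
  by_contra hcon
  have haz : len P z < len P (refl P a * z) :=
    lt_of_le_of_ne (not_lt.1 hcon) (len_refl_mul_ne P a z).symm
  set K : Set G := insert (a : G) J with hK
  have hLA : LA P K z := by
    intro s hs
    rcases hs with hs | hs
    · rwa [Subtype.ext hs]
    · refine lt_of_le_of_ne ?_ (len_refl_mul_ne P s z).symm
      have h1 := hadd (mul_mem hxJ (refl_mem_weylPara P hs))
      rw [mul_inv_rev, refl_inv, mul_assoc, ← hz] at h1
      have h3 := len_mul_le P x (refl P s)
      rw [len_refl] at h3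
      by_contra hcon'
      have h4 : len P (x * refl P s) ≤ len P x := by
        have := len_add_of_descents (P := P) hxd (mul_mem hxJ (refl_mem_weylPara P hs))
        omega
      omega
  have hJK : weylPara P J ≤ weylPara P K := by
    refine Subgroup.closure_mono ?_
    rintro _ ⟨s, hs, rfl⟩
    exact ⟨s, Or.inr hs, rfl⟩
  have haK : refl P a ∈ weylPara P K := refl_mem_weylPara P (Or.inl rfl)
  set y := refl P a * x with hy
  have hyK : y ∈ weylPara P K := mul_mem haK (hJK hxJ)
  have hyz : y * z = refl P a * w := by rw [hy, mul_assoc, ← hwz]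
  have hyl : len P y = len P x + 1 := by
    have := len_refl_mul_le P a x
    rw [← hy] at this
    omega
  have haw' : len P (refl P a * w) = len P w + 1 := by
    have := len_refl_mul_le P a w
    omega
  have hydesc : ∀ s : P.S, (s : G) ∈ K → len P (refl P s * y) < len P y := by
    intro s hs
    rcases hs with hs | hs
    · rw [Subtype.ext hs, hy, refl_cancel]; omega
    · have h1 : len P (refl P s * y * z) ≤ len P w := by
        rw [mul_assoc, hyz, hcomm, ← mul_assoc]
        have h2 := len_mul_le P (refl P s * w) (refl P a)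
        have h3 := hJ s hs
        rw [len_refl] at h2
        omega
      rw [len_mul_left (mul_mem (refl_mem_weylPara P (Or.inr hs)) hyK) hLA] at h1
      omega
  have hu : refl P a * refl P r * refl P a ∈ weylPara P K :=
    mul_mem (mul_mem haK (refl_mem_weylPara P (Or.inr hr))) haK
  have h1 := len_add_of_descents (P := P) hydesc hu
  have e1 : (refl P a * refl P r * refl P a)⁻¹ * y = refl P a * (refl P r * x) := by
    rw [hy, mul_inv_rev, mul_inv_rev, refl_inv, refl_inv]
    simp only [mul_assoc, refl_cancel]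
  rw [e1] at h1
  have hrx : refl P r * x ∈ weylPara P J := mul_mem (refl_mem_weylPara P hr) hxJ
  have h2 := ascent_of_para hrx ha
  have h3 := hxd r hr
  have h4 := len_le_refl_mul P r x
  have h5 := len_refl_mul_le P a (refl P r * x)
  have hl1 : len P (refl P a * refl P r * refl P a) = 1 := by omega
  have hra : len P (refl P r * refl P a) = 2 := by
    have hra' : (r : G) ∉ ({(a : G)} : Set G) := fun e => ha ((Set.mem_singleton_iff.1 e) ▸ hr)
    have := ascent_of_para (refl_mem_weylPara P (J := {(a : G)}) (s := a) rfl) hra'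
    have := len_refl_mul_le P r (refl P a)
    rw [len_refl] at *
    omega
  obtain ⟨i, hi, e⟩ := exchange P (s := a) [r, a] (by simp [hra]) (by
    simp only [wprod_cons, wprod_nil, mul_one]
    rw [← mul_assoc, hl1, hra]
    exact one_lt_two)
  simp only [wprod_cons, wprod_nil, mul_one, List.length_cons, List.length_nil] at e hi
  interval_cases i
  · simp only [List.eraseIdx_cons_zero, wprod_cons, wprod_nil, mul_one] at e
    apply hne
    have h6 := congrArg (refl P a * ·) e
    simp only [refl_cancel, refl_mul_self] at h6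
    rw [mul_eq_one_iff_eq_inv, refl_inv] at h6
    exact absurd (refl_inj P h6) fun h7 => ha (h7 ▸ hr)
  · simp only [List.eraseIdx_cons_succ, List.eraseIdx_cons_zero, wprod_cons, wprod_nil, mul_one] at e
    apply hne
    have h6 := congrArg (refl P a * ·) e
    simp only [refl_cancel] at h6
    exact h6.symm

/-- In a simple group no set of nodes commutes with the remaining ones. -/
theorem exists_noncommuting [IsSimpleGroup G] (hne : U ≠ ⊥) {J : Set G} (hJ : J ⊆ P.S)
    {r₀ : P.S} (hr₀ : (r₀ : G) ∈ J) {a₀ : P.S} (ha₀ : (a₀ : G) ∉ J) :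
    ∃ a r : P.S, (a : G) ∉ J ∧ (r : G) ∈ J ∧ refl P a * refl P r ≠ refl P r * refl P a := by
  by_contra hcon
  push Not at hcon
  set A : Set G := P.S \ J with hA
  have hAS : A ⊆ P.S := fun _ h => h.1
  have hAne : P.parabolic A ≠ ⊤ := by
    intro e
    obtain ⟨w, hw, hw'⟩ := (mem_parabolic_iff P hAS).1 (e ▸ Subgroup.mem_top (r₀ : G))
    have h1 := cell_unique P hw' (mem_cell_self P (sN P r₀))
    rw [h1, show proj P (sN P r₀) = refl P r₀ from rfl, refl_mem_weylPara_iff] at hw
    exact hw.2 hr₀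
  have hJne : P.parabolic J ≠ ⊤ := by
    intro e
    obtain ⟨w, hw, hw'⟩ := (mem_parabolic_iff P hJ).1 (e ▸ Subgroup.mem_top (a₀ : G))
    have h1 := cell_unique P hw' (mem_cell_self P (sN P a₀))
    rw [h1, show proj P (sN P a₀) = refl P a₀ from rfl, refl_mem_weylPara_iff] at hw
    exact ha₀ hw
  -- the core of one parabolic
  set M := P.parabolic J with hM
  have hUM : U ≤ M := h.le.trans (B_le_parabolic P J)
  have hidx : ¬ p ∣ M.index := fun hd => h.index
    (hd.trans (Subgroup.index_dvd_of_le hUM))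
  have hcore : Cfsg.pCore p ↥M ≠ ⊥ := fun e => hJne (h.coreFreeTop hne M e hidx)
  obtain ⟨⟨z, hzM⟩, hz, hz1⟩ := (Cfsg.pCore p ↥M).bot_or_exists_ne_one.resolve_left hcore
  have hUs : ¬ p ∣ (U.subgroupOf M).index := fun hd => h.index (by
    rw [← Subgroup.relIndex_mul_index hUM]
    exact Dvd.dvd.mul_right hd _)
  have hcoreU : Cfsg.pCore p ↥M ≤ U.subgroupOf M :=
    Grp.pCore_le_sylow ((h.pgroup.comap_of_injective _ M.subtype_injective : IsPGroup p
      (U.subgroupOf M)).toSylow hUs)
  -- the two parabolics generate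
  have hAJ : ∀ w : Weyl P, ∃ u ∈ weylPara P A, ∃ v ∈ weylPara P J, w = u * v := by
    intro w
    obtain ⟨l, rfl⟩ := exists_word P w
    induction l with
    | nil => exact ⟨1, one_mem _, 1, one_mem _, by simp⟩
    | cons s l ih =>
      obtain ⟨u, hu, v, hv, e⟩ := ih
      rw [wprod_cons, e]
      by_cases hs : (s : G) ∈ J
      · refine ⟨u, hu, refl P s * v, mul_mem (refl_mem_weylPara P hs) hv, ?_⟩
        have hc : Commute (refl P s) u := by
          refine Subgroup.closure_induction (p := fun y _ => Commute (refl P s) y) ?_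
            (Commute.one_right _) (fun _ _ _ _ hy hy' => hy.mul_right hy')
            (fun _ _ hy => hy.inv_right) hu
          rintro _ ⟨t, ht, rfl⟩
          exact (hcon t s ht.2 hs).symm
        rw [← mul_assoc, hc.eq, mul_assoc]
      · exact ⟨refl P s * u, mul_mem (refl_mem_weylPara P ⟨s.2, hs⟩) hu, v, hv,
          (mul_assoc _ _ _).symm⟩
  have hconj : Subgroup.normalClosure {z} ≤ P.parabolic A := by
    refine (Subgroup.closure_le _).2 fun e he => ?_
    obtain ⟨z', hz', hc⟩ := Group.mem_conjugatesOfSet_iff.1 he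
    rw [Set.mem_singleton_iff] at hz'
    rw [hz'] at hc
    obtain ⟨g, rfl⟩ := isConj_iff.1 hc
    obtain ⟨w, hw⟩ := exists_cell P g
    obtain ⟨u, hu, v, hv, rfl⟩ := hAJ w
    obtain ⟨nu, rfl⟩ := proj_surj P u
    obtain ⟨nv, rfl⟩ := proj_surj P v
    rw [← map_mul] at hw
    obtain ⟨b₁, hb₁, b₂, hb₂, rfl⟩ := (mem_cell_proj P).1 hw
    have huA : b₁ * (nu : G) ∈ P.parabolic A :=
      mul_mem (B_le_parabolic P A hb₁) ((mem_parabolic_iff P hAS).2 ⟨_, hu, mem_cell_self P nu⟩)
    have hvJ : (nv : G) * b₂ ∈ M :=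
      mul_mem ((mem_parabolic_iff P hJ).2 ⟨_, hv, mem_cell_self P nv⟩) (B_le_parabolic P J hb₂)
    have h1 := hcoreU ((Grp.pCore_isNormal (p := p) (G := ↥M)).conj_mem _ hz ⟨_, hvJ⟩)
    have h2 : (nv : G) * b₂ * z * ((nv : G) * b₂)⁻¹ ∈ P.parabolic A :=
      B_le_parabolic P A (h.le h1)
    have := mul_mem (mul_mem huA h2) (inv_mem huA)
    simpa [mul_assoc] using this
  rcases Subgroup.Normal.eq_bot_or_eq_top (Subgroup.normalClosure_normal (s := ({z} : Set G))) with
    e | e
  · refine hz1 (Subtype.ext (Subgroup.mem_bot.1 (e ▸ Subgroup.subset_normalClosure rfl)))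
  · exact hAne (top_le_iff.1 (e ▸ hconj))

/-- The dichotomy for simple groups with a split (B,N)-pair. -/
theorem dichotomy [IsSimpleGroup G] (hne : U ≠ ⊥) : DefChar.Dichotomy p G := by
  classical
  intro D hD _ hgr
  let T : Sylow p G := h.pgroup.toSylow h.index
  set R : G → Set P.S := fun g => {s | ∀ d ∈ D, g⁻¹ * d * g ∈ cj P U (refl P s)} with hR
  -- the normal form at a chamber
  have hnf : ∀ g : G, (∀ d ∈ D, g⁻¹ * d * g ∈ U) → ∃ k : G, ∃ n : P.N, ∃ b ∈ P.B,
      R k = R g ∧ (∀ z, (z ∈ U ⊓ cj P U (proj P n)) ↔ k * z * k⁻¹ ∈ D) ∧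
      ∀ z ∈ U ⊓ cj P U (proj P n), Commute ((n : G) * b) z := by
    intro g hg
    have hPg : ∀ y : G, y ∈ ((g • T : Sylow p G) : Subgroup G) ↔ g⁻¹ * y * g ∈ U := by
      intro y
      rw [Sylow.smul_def, Sylow.pointwise_smul_def, Subgroup.mem_pointwise_smul_iff_inv_smul_mem]
      simp [T, MulAut.smul_def, MulAut.conj_inv_apply]
    obtain ⟨x, hx, hxy⟩ := hgr (g • T) fun d hd => (hPg d).2 (hg d hd)
    obtain ⟨w, hw⟩ := exists_cell P (g⁻¹ * x * g)
    obtain ⟨n, rfl⟩ := proj_surj P w
    obtain ⟨u, hu, b, hb, e⟩ := h.exists_unb hw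
    have ex : x = g * (u * n * b) * g⁻¹ := by rw [← e]; group
    have hU1 : ∀ z, z ∈ U ↔ u * z * u⁻¹ ∈ U := fun z =>
      ⟨fun hz => mul_mem (mul_mem hu hz) (inv_mem hu), fun hz => by
        simpa [mul_assoc] using mul_mem (mul_mem (inv_mem hu) hz) hu⟩
    have hI : ∀ z, z ∈ U ⊓ cj P U (proj P n) ↔ g * u * z * (g * u)⁻¹ ∈ D := by
      intro z
      rw [← hxy, hPg, hPg, Subgroup.mem_inf, h.mem_cj,
        show g⁻¹ * (g * u * z * (g * u)⁻¹) * g = u * z * u⁻¹ by group,
        show g⁻¹ * (x⁻¹ * (g * u * z * (g * u)⁻¹) * x) * g = b⁻¹ * ((n : G)⁻¹ * z * n) * b by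
          rw [ex]; group, ← hU1]
      refine and_congr_right fun _ => ⟨fun h1 => ?_, fun h1 => ?_⟩
      · simpa [mul_assoc] using h.conj _ (inv_mem hb) _ h1
      · simpa [mul_assoc] using h.conj _ hb _ h1
    refine ⟨g * u, n, b * u, mul_mem hb (h.le hu), ?_, hI, fun z hz => ?_⟩
    · ext s
      refine forall₂_congr fun d hd => ?_
      rw [show (g * u)⁻¹ * d * (g * u) = u⁻¹ * (g⁻¹ * d * g) * u⁻¹⁻¹ by group]
      exact h.conj_mem_cj_iff (inv_mem (h.le hu)) (hg d hd)
    · have h1 := (hx _ ((hI z).1 hz)).eq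
      rw [ex] at h1
      have h2 := congrArg (fun t => (g * u)⁻¹ * t * (g * u)) h1
      show (n : G) * (b * u) * z = z * ((n : G) * (b * u))
      simpa [mul_assoc] using h2
  obtain ⟨Q, hQ⟩ := hD.exists_le_sylow
  obtain ⟨g₀, rfl⟩ := MulAction.exists_smul_eq G T Q
  haveI : Nonempty {g : G // ∀ d ∈ D, g⁻¹ * d * g ∈ U} := ⟨⟨g₀, fun d hd => by
    have := hQ hd
    rw [Sylow.smul_def, Sylow.pointwise_smul_def, Subgroup.mem_pointwise_smul_iff_inv_smul_mem] at this
    simpa [T, MulAut.smul_def, MulAut.conj_inv_apply] using this⟩⟩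
  haveI : Finite P.S := inferInstance
  obtain ⟨⟨g, hg⟩, hmax⟩ := Finite.exists_max
    fun g : {g : G // ∀ d ∈ D, g⁻¹ * d * g ∈ U} => (R g.1).ncard
  obtain ⟨k, n, b, hb, hRk, hI, hcomm⟩ := hnf g hg
  have hkD : ∀ d ∈ D, k⁻¹ * d * k ∈ U ⊓ cj P U (proj P n) := fun d hd =>
    (hI _).2 (by simpa [mul_assoc] using hd)
  have hdesc : ∀ s : P.S, s ∈ R g ↔ len P (refl P s * proj P n) < len P (proj P n) := by
    intro s
    rw [← hRk]
    refine ⟨fun hs => ?_, fun hs d hd => ?_⟩
    · by_contra hcon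
      obtain ⟨y, hy, hy', hy''⟩ := h.exists_moving
        (lt_of_le_of_ne (not_lt.1 hcon) (len_refl_mul_ne P s (proj P n)).symm)
      refine hy'' ?_
      simpa [mul_assoc] using hs _ ((hI y).1 ⟨hy, hy'⟩)
    · have h1 := h.inter_le (v := refl P s) (u := refl P s * proj P n)
      rw [refl_cancel] at h1
      refine h1 ?_ (hkD d hd)
      have h2 := len_le_refl_mul P s (proj P n)
      rw [len_refl]
      omega
  by_cases hempty : ∀ s : P.S, s ∉ R g
  · have hw1 : proj P n = 1 := by
      by_contra hne'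
      obtain ⟨s, hs⟩ := exists_first P _ hne'
      exact hempty s ((hdesc s).2 (by omega))
    refine Or.inr ⟨k • T, Subgroup.ext fun y => ?_⟩
    rw [Sylow.smul_def, Sylow.pointwise_smul_def, Subgroup.mem_pointwise_smul_iff_inv_smul_mem]
    have h1 := hI (k⁻¹ * y * k)
    rw [hw1, Subgroup.mem_inf, h.mem_cj_one, and_self,
      show k * (k⁻¹ * y * k) * k⁻¹ = y by group] at h1
    simpa [T, MulAut.smul_def, MulAut.conj_inv_apply] using h1
  push Not at hempty
  obtain ⟨r₀, hr₀⟩ := hempty
  by_cases hfull : ∀ s : P.S, s ∈ R g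
  · refine Or.inl (le_bot_iff.1 fun d hd => Subgroup.mem_bot.2 ?_)
    have h1 := hkD d hd
    have h2 := h.inter_longest r₀ (fun s => (hdesc s).1 (hfull s)) h1.1 h1.2
    simpa [mul_assoc] using congrArg (fun t => k * t * k⁻¹) h2
  exfalso
  push Not at hfull
  obtain ⟨a₀, ha₀⟩ := hfull
  set J : Set G := Subtype.val '' R g with hJ
  have hJmem : ∀ s : P.S, (s : G) ∈ J ↔ s ∈ R g := fun s => by
    rw [hJ, Subtype.val_injective.mem_set_image]
  have hJS : J ⊆ P.S := by rintro _ ⟨s, -, rfl⟩; exact s.2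
  obtain ⟨a, r, ha, hr, hne'⟩ := h.exists_noncommuting hne hJS ((hJmem r₀).2 hr₀)
    (fun e => ha₀ ((hJmem a₀).1 e))
  haveI : Nonempty {v : Weyl P // v ∈ weylPara P J} := ⟨⟨1, one_mem _⟩⟩
  obtain ⟨⟨x, hxJ⟩, hxmax⟩ := Finite.exists_max fun v : {v : Weyl P // v ∈ weylPara P J} => len P v.1
  have hxd : ∀ s : P.S, (s : G) ∈ J → len P (refl P s * x) < len P x := fun s hs =>
    lt_of_le_of_ne (hxmax ⟨_, mul_mem (refl_mem_weylPara P hs) hxJ⟩) (len_refl_mul_ne P s x)
  have hwJ : ∀ s : P.S, (s : G) ∈ J → len P (refl P s * proj P n) < len P (proj P n) := fun s hs =>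
    (hdesc s).1 ((hJmem s).1 hs)
  have haw : len P (proj P n) < len P (refl P a * proj P n) :=
    lt_of_le_of_ne (not_lt.1 fun e => ha ((hJmem a).2 ((hdesc a).2 e)))
      (len_refl_mul_ne P a _).symm
  have hpre : ∀ v : Weyl P, len P v + len P (v⁻¹ * proj P n) = len P (proj P n) →
      ∀ d ∈ D, k⁻¹ * d * k ∈ cj P U v := by
    intro v hv d hd
    have h1 := h.inter_le (v := v) (u := v⁻¹ * proj P n) (by rw [mul_inv_cancel_left, hv])
    rw [mul_inv_cancel_left] at h1
    exact h1 (hkD d hd)
  have hadd := fun {v : Weyl P} (hv : v ∈ weylPara P J) => len_add_of_descents (P := P) hwJ hv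
  obtain ⟨nx, hnx⟩ := proj_surj P x
  subst hnx
  have hg' : ∀ d ∈ D, (k * (nx : G))⁻¹ * d * (k * nx) ∈ U := by
    intro d hd
    have := h.mem_cj.1 (hpre _ (hadd hxJ) d hd)
    simpa [mul_assoc] using this
  have hmove : ∀ s : P.S, len P (proj P nx * refl P s) + len P ((proj P nx * refl P s)⁻¹ * proj P n) =
      len P (proj P n) → s ∈ R (k * (nx : G)) := by
    intro s hs d hd
    have := (h.conj_cj (n := nx) (v := refl P s)).1 (hpre _ hs d hd)
    simpa [mul_assoc] using this
  have hsub : insert a (R g) ⊆ R (k * (nx : G)) := by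
    rintro s (rfl | hs)
    · exact hmove s (descent_step hwJ hxJ hxd ha haw (h.ascent_commute hb hcomm haw) hr hne')
    · exact hmove s (hadd (mul_mem hxJ (refl_mem_weylPara P ((hJmem s).2 hs))))
  have h1 := Set.ncard_le_ncard hsub (Set.toFinite _)
  have h2 : (R (k * (nx : G))).ncard ≤ (R g).ncard := hmax ⟨_, hg'⟩
  rw [Set.ncard_insert_of_notMem (fun e => ha ((hJmem a).2 e)) (Set.toFinite _)] at h1
  omega

end Split

end Cfsg.Agent.Lie.Over
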