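import Cfsg.Agent.Lib.Lie.DefChar.Instances
import Cfsg.Agent.Lib.Lie.DefChar.Split
import Cfsg.Agent.Lib.Lie.Over.Main
import Cfsg.Agent.Lib.Lie.CharTwo.Main

/-!
Simple groups of Lie type: every `p`-block in the defining characteristic `p` has defect zero or full
defect.
-/

set_option autoImplicit false
set_option linter.unusedSectionVars false
set_option linter.style.haveILetI false
set_option maxRecDepth 8000

namespace Cfsg.Agent.Lie.DefChar

open Cfsg Cfsg.Lie Cfsg.Agent Cfsg.Agent.Lie.Chev Cfsg.Agent.Lie.Over Cfsg.Agent.Classical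
  Cfsg.Agent.Classical.OrthAut

/-- Constrained centralisers of involutions give constrained centralisers of radical subgroups. -/
theorem constrained_of_con {G : Type*} [Group G] [Finite G] [Fact (Nat.Prime 2)]
    (h : CharTwo.Con (⊥ : Subgroup G)) : Constrained 2 G := by
  refine constrained_of_normalised (π := MonoidHom.id G) Function.surjective_id ?_ ?_ fun x hx => ?_
  · rw [MonoidHom.ker_id]; exact bot_le
  · rw [MonoidHom.ker_id, Subgroup.card_bot]; decide
  set C := Subgroup.centralizer ({x} : Set G) with hC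
  have hCm : ∀ g, g ∈ C ↔ Commute g x := fun g => Subgroup.mem_centralizer_singleton_iff
  refine ⟨(Cfsg.pCore 2 ↥C).map C.subtype, (Grp.pCore_isPGroup (p := 2) (G := ↥C)).map _, ?_, ?_⟩
  · rintro g hg _ ⟨a, ha, rfl⟩
    exact ⟨⟨g, (hCm g).2 hg⟩ * a * ⟨g, (hCm g).2 hg⟩⁻¹,
      (Grp.pCore_isNormal (p := 2) (G := ↥C)).conj_mem a ha _, rfl⟩
  intro y hy hyo hyR
  have hx1 : x ≠ 1 := fun e => by rw [e, orderOf_one] at hx; exact absurd hx (by norm_num)
  refine Subgroup.mem_bot.1 (h x hx1 (by rw [← pow_two, ← hx, pow_orderOf_eq_one]) y hy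
    (Nat.odd_iff.2 (Nat.two_dvd_ne_zero.1 hyo)) fun N hN hNc hNn n hn => hyR n ?_)
  exact ⟨⟨n, (hCm n).2 (hNc n hn)⟩, Grp.le_pCore (N := N.subgroupOf C)
    ⟨fun a ha g => hNn g ((hCm _).1 g.2) a ha⟩ (hN.comap_of_injective _ C.subtype_injective) hn, rfl⟩

variable {F : Type} [Field F] [Fintype F] {p : ℕ} [Fact p.Prime] [CharP F p]

theorem dichotomy_chev {D : ChevalleyDatum} (c : CertFull D) (hrank : 0 < D.rank)
    [IsSimpleGroup ↥(D.group F)] : Dichotomy p ↥(D.group F) := by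
  refine (chev_split c).dichotomy fun h => ?_
  have hm := c.xg_mem_U (F := F) (c.pos_simple hrank) 1
  have : (⟨_, c.B_le_group (Subgroup.mem_sup_left hm)⟩ : ↥(D.group F)) ∈
      (D.posUnipotent F).subgroupOf (D.group F) := hm
  rw [h, Subgroup.mem_bot] at this
  exact one_ne_zero ((c.xg_eq_one_iff (c.simple_lt hrank) (1 : F)).1 (congrArg Subtype.val this))

theorem dichotomy_twist {D : ChevalleyDatum} {c : CertFull D} {T : Twist c F} (Y : Twist.Datum T)
    (hne : Y.W.Jw ≠ []) [IsSimpleGroup ↥Y.G₁] : Dichotomy p ↥Y.G₁ := by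
  refine (twist_split Y).dichotomy fun h => ?_
  obtain ⟨J, hJ⟩ := List.exists_mem_of_ne_nil _ hne
  obtain ⟨x, hx, hx1⟩ := Y.exists_ne_one hJ
  have hU := c.KS_invSet_le_U (Y.W.J_spec hJ).2.1 hx.1
  have : (⟨x, Y.U_fix_le ⟨hU, hx.2⟩⟩ : ↥Y.G₁) ∈ twistU Y := hU
  rw [h, Subgroup.mem_bot] at this
  exact hx1 (congrArg Subtype.val this)

theorem dichotomy_g2 (h : 3 ≤ Fintype.card F) : Dichotomy p ↥(chevG2.group F) := by
  have hne : ∃ a : F, a ≠ 0 ∧ a ≠ 1 := by
    classical
    by_contra hcon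
    push Not at hcon
    have : (Finset.univ : Finset F) ⊆ {0, 1} := fun a _ => by
      rcases eq_or_ne a 0 with rfl | ha
      · simp
      · simp [hcon a ha]
    have h2 := (Finset.card_le_card this).trans Finset.card_le_two
    rw [Finset.card_univ] at h2
    omega
  haveI := (certFullG2.simple (F := F) connG2 (perfect_of_mem (by simp) fun _ => hne)).1
  exact dichotomy_chev certFullG2 (by decide +kernel)

theorem dichotomy_f4 : Dichotomy p ↥(chevF4.group F) := by
  haveI := (certFullF4.simple (F := F) connF4 (certFullF4.perfect perfectF4)).1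
  exact dichotomy_chev certFullF4 (by decide +kernel)

theorem dichotomy_e6 : Dichotomy p ↥(chevE6.group F) := by
  haveI := (certFullE6.simple (F := F) connE6 (certFullE6.perfect perfectE6)).1
  exact dichotomy_chev certFullE6 (by decide +kernel)

theorem dichotomy_e7 : Dichotomy p ↥(chevE7.group F) := by
  haveI := (certFullE7.simple (F := F) connE7 (certFullE7.perfect perfectE7)).1
  exact dichotomy_chev certFullE7 (by decide +kernel)

theorem dichotomy_e8 : Dichotomy p ↥(chevE8.group F) := by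
  haveI := (certFullE8.simple (F := F) connE8 (certFullE8.perfect perfectE8)).1
  exact dichotomy_chev certFullE8 (by decide +kernel)

theorem dichotomy_e6_twisted {q : ℕ} (hq : IsPrimePow q) (hK : Fintype.card F = q ^ 2) :
    Dichotomy p ↥(twistedE6 F q) := by
  obtain ⟨f, hf⟩ := exists_qPow hq hK
  haveI : IsSimpleGroup ↥(E6.datum f hf hK).G₁ := (E6.simple f hf hK).1
  exact dichotomy_twist (E6.datum f hf hK) (by show orbitsE6 ≠ []; decide)

theorem dichotomy_d4_twisted {q : ℕ} (hq : IsPrimePow q) (hK : Fintype.card F = q ^ 3) :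
    Dichotomy p ↥(twistedD4 F q) := by
  obtain ⟨f, hf⟩ := exists_qPow hq hK
  haveI : IsSimpleGroup ↥(D4.datum f hf hK).G₁ := (D4.simple f hf hK).1
  exact dichotomy_twist (D4.datum f hf hK) (by show orbitsD4 ≠ []; decide)

omit [Fact p.Prime] [CharP F p] in
theorem dichotomy_g2_twisted [Fact (Nat.Prime 3)] {m : ℕ} (hm : 1 ≤ m)
    (hK : Fintype.card F = 3 ^ (2 * m + 1)) : Dichotomy 3 ↥(twistedG2 F (3 ^ m)) := by
  obtain ⟨_, _, f, hf⟩ := exists_isoFrob Nat.prime_three hK
  haveI : IsSimpleGroup ↥(G2.datum f hf hK).G₁ := (G2.simple f hf hK hm).1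
  exact dichotomy_twist (G2.datum f hf hK) (by show orbitsG2 ≠ []; decide)

omit [Field F] [Fintype F] [CharP F p] in
theorem dichotomy_omega_congr {ι : Type} [Fintype ι] [DecidableEq ι] {k : Type} [Field k] [Finite k]
    {Q Q' : (ι → k) → k} (h : Q = Q') (H : Dichotomy p (POmega k Q)) : Dichotomy p (POmega k Q') := by
  subst h; exact H

/-- The dichotomy for all simple groups of Lie type. -/
theorem dichotomy_of_lieTypeChar {K : Type*} [Group K] [Finite K] {p : ℕ} [Fact p.Prime]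
    (h : IsLieTypeChar p K) : Dichotomy p K := by
  by_cases hp2 : p = 2
  · subst hp2
    exact (constrained_of_con (CharTwo.con_of_chevSimple (Or.inl h))).dichotomy
  rcases h with ⟨F, _, _, _, n, hn, h24, ⟨e⟩⟩ | ⟨F, _, _, _, m, hm, h23, ⟨e⟩⟩ |
    ⟨F, _, _, _, n, q, hF, hn, hn2, ⟨e⟩⟩ | ⟨F, _, _, _, m, hm, hodd, ⟨e⟩⟩ | ⟨F, _, _, _, m, hm, ⟨e⟩⟩ |
    ⟨F, _, _, _, m, a, b, hm, hab, ⟨e⟩⟩ | ⟨F, _, _, _, he⟩ | ⟨F, _, _, _, q, hq, he⟩ |
    ⟨h2, -⟩ | ⟨h2, -⟩ | ⟨rfl, F, _, _, m, hm, hK, ⟨e⟩⟩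
  · exact Dichotomy.of_equiv e.symm (constrained_psl (F := F)).dichotomy
  · exact Dichotomy.of_equiv e.symm (constrained_psp (F := F) (m := m) (by omega)).dichotomy
  · exact Dichotomy.of_equiv e.symm (constrained_psu hF hn).dichotomy
  all_goals try exact absurd h2 hp2
  · have H := oddSpace_qfOdd (F := F) hm hodd
    have h2 : (2 : F) ≠ 0 := Ring.two_ne_zero (by rw [ringChar.eq F p]; exact hp2)
    exact Dichotomy.of_equiv e.symm (dichotomy_omega_congr (coe_qfOdd m)
      (constrained_omega h2 H.nd H.tri (by simp; omega)).dichotomy)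
  · have h2 : (2 : F) ≠ 0 := Ring.two_ne_zero (by rw [ringChar.eq F p]; exact hp2)
    exact Dichotomy.of_equiv e.symm (dichotomy_omega_congr (coe_qfPlus m)
      (constrained_omega h2 (nondegenerate_qfPlus m) (tri_qfPlus (by omega)) (by simp; omega)).dichotomy)
  · have h2 : (2 : F) ≠ 0 := Ring.two_ne_zero (by rw [ringChar.eq F p]; exact hp2)
    exact Dichotomy.of_equiv e.symm (dichotomy_omega_congr (coe_qfMinus (m - 1) a b)
      (constrained_omega h2 (nondegenerate_qfMinus (m - 1) hab) (tri_qfMinus (by omega) a b)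
        (by simp; omega)).dichotomy)
  · rcases he with ⟨h3, ⟨e⟩⟩ | ⟨⟨e⟩⟩ | ⟨⟨e⟩⟩ | ⟨⟨e⟩⟩ | ⟨⟨e⟩⟩
    · exact Dichotomy.of_equiv e.symm (dichotomy_g2 h3)
    · exact Dichotomy.of_equiv e.symm dichotomy_f4
    · exact Dichotomy.of_equiv e.symm dichotomy_e6
    · exact Dichotomy.of_equiv e.symm dichotomy_e7
    · exact Dichotomy.of_equiv e.symm dichotomy_e8
  · rcases he with ⟨hK, ⟨e⟩⟩ | ⟨hK, ⟨e⟩⟩
    · exact Dichotomy.of_equiv e.symm (dichotomy_e6_twisted hq hK)
    · exact Dichotomy.of_equiv e.symm (dichotomy_d4_twisted hq hK)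
  · exact Dichotomy.of_equiv e.symm (dichotomy_g2_twisted hm hK)

end Cfsg.Agent.Lie.DefChar
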